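import Mathlib.RingTheory.Nullstellensatz
import Mathlib.RingTheory.Valuation.LocalSubring
import Mathlib.Algebra.MvPolynomial.PDeriv
import Mathlib.Data.Finsupp.Weight
import Mathlib.RingTheory.MvPolynomial.Homogeneous
import Mathlib.LinearAlgebra.Matrix.ToLinearEquiv
import Mathlib.LinearAlgebra.Dimension.Finrank
import Mathlib.Tactic

/-!
A hypersurface of degree `d ≤ 2n - 3` in projective `n`-space contains a line: the generic hypersurface does by
the Jacobian criterion, and lines specialise along a valuation.
-/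

set_option autoImplicit false
universe u

open MvPolynomial

namespace Groth.L14.Fano

/-- Polynomials whose Jacobian has a nonzero maximal minor satisfy no relation. -/
theorem eq_zero_of_jacobian {k : Type u} [Field k] [CharZero k] {ι σ : Type} [Fintype ι] [DecidableEq ι]
    (p : ι → MvPolynomial σ k) (v : ι → σ) (pt : σ → k)
    (hdet : (Matrix.of fun m m' => eval pt (pderiv (v m) (p m'))).det ≠ 0) (R : MvPolynomial ι k)
    (h : aeval p R = 0) : R = 0 := by
  have hM : (Matrix.of fun m m' => pderiv (v m) (p m') : Matrix ι ι (MvPolynomial σ k)).det ≠ 0 := fun h0 => by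
    apply hdet
    have := congrArg (eval pt) h0
    rw [map_zero, RingHom.map_det] at this
    exact this
  have hstep : ∀ R : MvPolynomial ι k, aeval p R = 0 → ∀ i, aeval p (pderiv i R) = 0 := by
    intro R hR
    have hv : (Matrix.of fun m m' => pderiv (v m) (p m') : Matrix ι ι (MvPolynomial σ k)).mulVec
        (fun i => aeval p (pderiv i R)) = 0 := by
      funext m
      have key : ∀ Q : MvPolynomial ι k, pderiv (v m) (aeval p Q) =
          ∑ i, pderiv (v m) (p i) * aeval p (pderiv i Q) := by
        intro Q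
        induction Q using MvPolynomial.induction_on with
        | C a => simp
        | add x y hx hy => simp only [map_add, hx, hy, mul_add, Finset.sum_add_distrib]
        | mul_X x j hx =>
          rw [map_mul, aeval_X, Derivation.leibniz, hx, smul_eq_mul, smul_eq_mul, Finset.mul_sum]
          simp only [Derivation.leibniz, smul_eq_mul, map_add, map_mul, aeval_X, pderiv_X, Pi.single_apply,
            mul_add, Finset.sum_add_distrib]
          congr 1
          · rw [Finset.sum_eq_single j]
            · simp [mul_comm]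
            · intro i _ hij; simp [Ne.symm hij]
            · intro hj; exact absurd (Finset.mem_univ j) hj
          · exact Finset.sum_congr rfl fun i _ => by ring
      have := key R
      rw [hR, map_zero] at this
      exact this.symm
    exact fun i => congrFun (Matrix.eq_zero_of_mulVec_eq_zero hM hv) i
  have hN : ∀ N, ∀ R : MvPolynomial ι k, (∀ m ∈ R.support, Finsupp.degree m ≤ N) → aeval p R = 0 → R = 0 := by
    intro N
    induction N with
    | zero =>
      intro R hdeg hR
      have hC : R = C (coeff 0 R) := by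
        ext m
        rcases eq_or_ne m 0 with rfl | hm
        · simp
        · rw [coeff_C, if_neg (Ne.symm hm)]
          by_contra hc
          exact hm ((Finsupp.degree_eq_zero_iff m).1 (Nat.le_zero.1 (hdeg m (mem_support_iff.2 hc))))
      rw [hC, aeval_C, map_eq_zero_iff _ (algebraMap k (MvPolynomial σ k)).injective] at hR
      rw [hC, hR, map_zero]
    | succ N ih =>
      intro R hdeg hR
      refine ih R (fun m hm => ?_) hR
      by_contra hlt
      push Not at hlt
      obtain ⟨i, hi⟩ : ∃ i, 0 < m i := by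
        by_contra h0
        push Not at h0
        rw [show m = 0 from Finsupp.ext fun i => Nat.le_zero.1 (h0 i), map_zero] at hlt
        omega
      have hd0 : pderiv i R = 0 := by
        refine ih _ (fun m' hm' => ?_) (hstep R hR i)
        rw [mem_support_iff, coeff_pderiv] at hm'
        have := hdeg _ (mem_support_iff.2 (left_ne_zero_of_mul hm'))
        rw [map_add, Finsupp.degree_single] at this
        omega
      have hc := congrArg (coeff (m - Finsupp.single i 1)) hd0
      rw [coeff_pderiv, coeff_zero, tsub_add_cancel_of_le (Finsupp.single_le_iff.2 hi)] at hc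
      exact (mul_ne_zero (mem_support_iff.1 hm) (Nat.cast_add_one_ne_zero _)) hc
  exact hN _ R (fun m hm => Finset.le_sup (f := fun m => Finsupp.degree m) hm) h

variable (n d : ℕ)

/-- Monomials of degree `d`. -/
abbrev Mon : Type := {m : Fin n →₀ ℕ // Finsupp.degree m = d}

noncomputable instance : Fintype (Mon n d) := (Finsupp.finite_of_degree_eq d).fintype

variable {n d}

/-- Adjoining a variable to a monomial. -/
noncomputable def Mon.raise (μ : Mon n d) (c : Fin n) : Mon n (d + 1) :=
  ⟨μ.1 + Finsupp.single c 1, by rw [map_add, μ.2, Finsupp.degree_single]⟩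

theorem eval_eq_sum {k : Type u} [CommRing k] {f : MvPolynomial (Fin n) k} (hf : f.IsHomogeneous d) (x : Fin n → k) :
    eval x f = ∑ m : Mon n d, coeff m.1 f * ∏ c, x c ^ m.1 c := by
  classical
  have hsub : ∀ m ∈ f.support, Finsupp.degree m = d := fun m hm => hf.degree_eq_sum_deg_support hm |>.symm
  rw [eval_eq']
  refine Finset.sum_bij_ne_zero (fun m hm _ => ⟨m, hsub m hm⟩) (fun _ _ _ => Finset.mem_univ _)
    (fun _ _ _ _ _ _ h => congrArg Subtype.val h) (fun m _ hm => ⟨m.1, mem_support_iff.2 (left_ne_zero_of_mul hm), hm, rfl⟩)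
    (fun _ _ _ => rfl)

variable {k : Type u} [Field k] [CharZero k] [IsAlgClosed k]

/-- The parameters: slopes of the line and the cofactors. -/
abbrev Par (n d : ℕ) : Type := (Fin 2 × Fin n) ⊕ (Fin n × Mon (n + 2) d)

/-- The generic hypersurface of degree `d + 1` containing the generic line, by its coefficients. -/
noncomputable def coeffGen (k : Type u) [Field k] (n d : ℕ) (m : Mon (n + 2) (d + 1)) : MvPolynomial (Par n d) k :=
  ∑ i : Fin n, ∑ μ : Mon (n + 2) d,
    ((if μ.raise i.succ.succ = m then X (Sum.inr (i, μ)) else 0) -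
      (if μ.raise 0 = m then X (Sum.inl (0, i)) * X (Sum.inr (i, μ)) else 0) -
      (if μ.raise 1 = m then X (Sum.inl (1, i)) * X (Sum.inr (i, μ)) else 0))

theorem sum_coeffGen {S : Type*} [CommRing S] (g : MvPolynomial (Par n d) k →+* S) (x : Fin (n + 2) → S) :
    ∑ m, g (coeffGen k n d m) * ∏ c, x c ^ m.1 c =
      ∑ i : Fin n, ∑ μ : Mon (n + 2) d, g (X (Sum.inr (i, μ))) *
        (x i.succ.succ - g (X (Sum.inl (0, i))) * x 0 - g (X (Sum.inl (1, i))) * x 1) * ∏ c, x c ^ μ.1 c := by
  classical
  simp only [coeffGen, map_sum, Finset.sum_mul]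
  rw [Finset.sum_comm]
  refine Finset.sum_congr rfl fun i _ => ?_
  rw [Finset.sum_comm]
  refine Finset.sum_congr rfl fun μ _ => ?_
  have hr : ∀ c, ∏ e, x e ^ (μ.raise c).1 e = (∏ e, x e ^ μ.1 e) * x c := by
    intro c
    simp only [Mon.raise, Finsupp.add_apply, pow_add, Finset.prod_mul_distrib]
    congr 1
    rw [Finset.prod_eq_single c]
    · simp
    · intro e _ he; simp [Finsupp.single_eq_of_ne he]
    · intro h; exact absurd (Finset.mem_univ c) h
  simp only [map_sub, apply_ite g, map_mul, map_zero, sub_mul, ite_mul, zero_mul, Finset.sum_sub_distrib,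
    Finset.sum_ite_eq, Finset.mem_univ, if_true, hr]
  ring

/-- The cofactor monomials at the special point. -/
noncomputable def gam (n d : ℕ) (i : Fin n) : Fin (n + 2) →₀ ℕ :=
  Finsupp.single 0 (d - min (2 * i.val) d) + Finsupp.single 1 (min (2 * i.val) d)

theorem degree_gam (i : Fin n) : Finsupp.degree (gam n d i) = d := by
  rw [gam, map_add, Finsupp.degree_single, Finsupp.degree_single]; omega

theorem coeffGen_independent (h : d + 2 ≤ 2 * n) (R : MvPolynomial (Mon (n + 2) (d + 1)) k)
    (hR : aeval (coeffGen k n d) R = 0) : R = 0 := by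
  classical
  let pt : Par n d → k := Sum.elim (fun _ => 0) (fun p => if p.2.1 = gam n d p.1 then 1 else 0)
  have hcol : ∀ m : Mon (n + 2) (d + 1), ∃ (v : Par n d) (c : k), c ≠ 0 ∧
      ∀ m', eval pt (pderiv v (coeffGen k n d m')) = if m = m' then c else 0 := by
    intro m
    by_cases hmix : ∃ i : Fin n, m.1 i.succ.succ ≠ 0
    · obtain ⟨i, hi⟩ := hmix
      have hle : Finsupp.single i.succ.succ 1 ≤ m.1 := Finsupp.single_le_iff.2 (Nat.pos_of_ne_zero hi)
      let μ : Mon (n + 2) d := ⟨m.1 - Finsupp.single i.succ.succ 1, by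
        have := congrArg Finsupp.degree (tsub_add_cancel_of_le hle)
        rw [map_add, Finsupp.degree_single, m.2] at this
        omega⟩
      have hμ : μ.raise i.succ.succ = m := Subtype.ext (tsub_add_cancel_of_le hle)
      refine ⟨Sum.inr (i, μ), 1, one_ne_zero, fun m' => ?_⟩
      simp only [coeffGen, map_sum, map_sub, apply_ite (pderiv (Sum.inr (i, μ) : Par n d)), map_zero,
        apply_ite (eval pt), Derivation.leibniz, smul_eq_mul, map_add, map_mul, pderiv_X, eval_X]
      rw [Finset.sum_eq_single i, Finset.sum_eq_single μ]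
      · simp [pt, hμ]
      · intro μ' _ hne
        simp [pt, Pi.single_apply, hne]
      · intro hh; exact absurd (Finset.mem_univ μ) hh
      · intro i' _ hne
        exact Finset.sum_eq_zero fun μ' _ => by simp [pt, Pi.single_apply, hne]
      · intro hh; exact absurd (Finset.mem_univ i) hh
    · push Not at hmix
      have hsum : m.1 0 + m.1 1 = d + 1 := by
        have h1 := m.2
        rw [Finsupp.degree_eq_sum, Fin.sum_univ_succ, Fin.sum_univ_succ] at h1
        simp only [hmix, Finset.sum_const_zero, add_zero] at h1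
        exact h1
      obtain ⟨i, e, he⟩ : ∃ (i : Fin n) (e : Fin 2),
          gam n d i + Finsupp.single (Fin.castLE (Nat.le_add_left 2 n) e) 1 = m.1 := by
        have hext : ∀ (i : Fin n) (e : Fin 2), (gam n d i + Finsupp.single (Fin.castLE (Nat.le_add_left 2 n) e) 1 : Fin (n + 2) →₀ ℕ) 0 = m.1 0 →
            (gam n d i + Finsupp.single (Fin.castLE (Nat.le_add_left 2 n) e) 1 : Fin (n + 2) →₀ ℕ) 1 = m.1 1 →
            gam n d i + Finsupp.single (Fin.castLE (Nat.le_add_left 2 n) e) 1 = m.1 := by
          intro i e h0 h1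
          refine Finsupp.ext fun c => ?_
          induction c using Fin.cases with
          | zero => exact h0
          | succ c =>
            induction c using Fin.cases with
            | zero => exact h1
            | succ c =>
              rw [hmix c]
              fin_cases e <;> simp [gam, Finsupp.single_apply, Fin.ext_iff]
        rcases Nat.even_or_odd' (m.1 1) with ⟨j, hj | hj⟩
        · by_cases hlast : m.1 1 = d + 1
          · exact ⟨⟨j, by omega⟩, 1, hext _ _ (by simp [gam, Finsupp.single_apply, Fin.ext_iff]; omega)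
              (by simp [gam, Finsupp.single_apply, Fin.ext_iff]; omega)⟩
          · exact ⟨⟨j, by omega⟩, 0, hext _ _ (by simp [gam, Finsupp.single_apply, Fin.ext_iff]; omega)
              (by simp [gam, Finsupp.single_apply, Fin.ext_iff]; omega)⟩
        · exact ⟨⟨j, by omega⟩, 1, hext _ _ (by simp [gam, Finsupp.single_apply, Fin.ext_iff]; omega)
            (by simp [gam, Finsupp.single_apply, Fin.ext_iff]; omega)⟩
      let γ : Mon (n + 2) d := ⟨gam n d i, degree_gam i⟩
      have hγ : γ.raise (Fin.castLE (Nat.le_add_left 2 n) e) = m := Subtype.ext he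
      refine ⟨Sum.inl (e, i), -1, by simp, fun m' => ?_⟩
      simp only [coeffGen, map_sum, map_sub, apply_ite (pderiv (Sum.inl (e, i) : Par n d)), map_zero,
        apply_ite (eval pt), Derivation.leibniz, smul_eq_mul, map_add, map_mul, pderiv_X, eval_X]
      rw [Finset.sum_eq_single i, Finset.sum_eq_single γ]
      · fin_cases e
        · have h0 : γ.raise 0 = m := hγ
          simp [pt, h0, γ, neg_ite]
        · have h0 : γ.raise 1 = m := hγ
          simp [pt, h0, γ, neg_ite]
      · intro μ' _ hne
        have : μ'.1 ≠ gam n d i := fun e' => hne (Subtype.ext e')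
        simp [pt, Pi.single_apply, this]
      · intro hh; exact absurd (Finset.mem_univ γ) hh
      · intro i' _ hne
        refine Finset.sum_eq_zero fun μ' _ => ?_
        simp [pt, Pi.single_apply, hne]
      · intro hh; exact absurd (Finset.mem_univ i) hh
  choose v c hc hv using hcol
  refine eq_zero_of_jacobian (coeffGen k n d) v pt ?_ R hR
  rw [show (Matrix.of fun m m' => eval pt (pderiv (v m) (coeffGen k n d m'))) = Matrix.diagonal c from
    Matrix.ext fun m m' => by rw [Matrix.of_apply, hv, Matrix.diagonal_apply], Matrix.det_diagonal]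
  exact Finset.prod_ne_zero_iff.2 fun m _ => hc m

theorem exists_line (h : d + 2 ≤ 2 * n) (f : MvPolynomial (Fin (n + 2)) k) (hf : f.IsHomogeneous (d + 1)) :
    ∃ U : Submodule k (Fin (n + 2) → k), Module.finrank k U = 2 ∧ ∀ u ∈ U, eval u f = 0 := by
  classical
  let L := FractionRing (MvPolynomial (Par n d) k)
  let g : MvPolynomial (Par n d) k →+* L := algebraMap _ L
  let φ : MvPolynomial (Mon (n + 2) (d + 1)) k →+* L := g.comp (aeval (coeffGen k n d)).toRingHom
  have hφ : Function.Injective φ := (injective_iff_map_eq_zero φ).2 fun R hR =>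
    coeffGen_independent h R ((IsFractionRing.injective (MvPolynomial (Par n d) k) L) (hR.trans (map_zero _).symm))
  let ε : MvPolynomial (Mon (n + 2) (d + 1)) k →+* k := eval fun m => coeff m.1 f
  have hI : (RingHom.ker ε).map φ.rangeRestrict ≠ ⊤ := by
    rw [Ne, Ideal.eq_top_iff_one]
    intro h1
    rw [Ideal.mem_map_iff_of_surjective _ φ.rangeRestrict_surjective] at h1
    obtain ⟨r, hr, h1⟩ := h1
    have : r = 1 := hφ (by rw [map_one]; exact congrArg Subtype.val h1)
    rw [this, RingHom.mem_ker, map_one] at hr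
    exact one_ne_zero hr
  obtain ⟨V, hV, hVn⟩ := Ideal.image_subset_nonunits_valuationSubring _ hI
  let φV : MvPolynomial (Mon (n + 2) (d + 1)) k →+* V := φ.codRestrict V.toSubring fun r => hV ⟨r, rfl⟩
  let ψ : MvPolynomial (Mon (n + 2) (d + 1)) k →+* IsLocalRing.ResidueField V := (IsLocalRing.residue V).comp φV
  letI : Algebra k (IsLocalRing.ResidueField V) := (ψ.comp C).toAlgebra
  have hψ : ∀ r, ψ r = algebraMap k (IsLocalRing.ResidueField V) (ε r) := by
    intro r
    show ψ r = ψ (C (ε r))
    rw [← sub_eq_zero, ← map_sub]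
    show IsLocalRing.residue V (φV (r - C (ε r))) = 0
    rw [IsLocalRing.residue_eq_zero_iff]
    have hmem : φ (r - C (ε r)) ∈ V.nonunits :=
      hVn ⟨φ.rangeRestrict (r - C (ε r)), Ideal.mem_map_of_mem _ (by simp [RingHom.mem_ker, ε]), rfl⟩
    obtain ⟨hx, hx'⟩ := ValuationSubring.mem_nonunits_iff_exists_mem_maximalIdeal.1 hmem
    exact hx'
  -- the generic line and its Plücker coordinates
  let u0 : Fin (n + 2) → L := Fin.cons 1 (Fin.cons 0 fun i => g (X (Sum.inl (0, i))))
  let u1 : Fin (n + 2) → L := Fin.cons 0 (Fin.cons 1 fun i => g (X (Sum.inl (1, i))))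
  have p00 : u0 0 = 1 := rfl
  have p01 : u0 1 = 0 := rfl
  have p10 : u1 0 = 0 := rfl
  have p11 : u1 1 = 1 := rfl
  have p0s : ∀ i : Fin n, u0 i.succ.succ = g (X (Sum.inl (0, i))) := fun _ => rfl
  have p1s : ∀ i : Fin n, u1 i.succ.succ = g (X (Sum.inl (1, i))) := fun _ => rfl
  have hline : ∀ s t : L, ∑ m, φ (X m) * ∏ c, (s * u0 c + t * u1 c) ^ m.1 c = 0 := by
    intro s t
    have hX : ∀ m, φ (X m) = g (coeffGen k n d m) := fun m => by simp [φ]
    simp only [hX]
    rw [sum_coeffGen g fun c => s * u0 c + t * u1 c]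
    refine Finset.sum_eq_zero fun i _ => Finset.sum_eq_zero fun μ _ => ?_
    rw [p00, p01, p10, p11, p0s, p1s]
    ring
  let M : Fin (n + 2) × Fin (n + 2) → L := fun p => u0 p.1 * u1 p.2 - u0 p.2 * u1 p.1
  obtain ⟨⟨a, b⟩, -, hab⟩ := Finset.exists_max_image Finset.univ (fun p => V.valuation (M p)) Finset.univ_nonempty
  have hMab : M (a, b) ≠ 0 := by
    intro h0
    have := hab (0, 1) (Finset.mem_univ _)
    rw [h0, map_zero, le_zero_iff, map_eq_zero] at this
    simp [M, p00, p01, p10, p11] at this
  have hmemV : ∀ p, M p / M (a, b) ∈ V := fun p => by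
    rw [← V.valuation_le_one_iff, map_div₀,
      div_le_one₀ (zero_lt_iff.2 ((map_ne_zero V.valuation).2 hMab))]
    exact hab p (Finset.mem_univ _)
  let w0 : Fin (n + 2) → V := fun c => ⟨M (c, b) / M (a, b), hmemV _⟩
  let w1 : Fin (n + 2) → V := fun c => ⟨M (a, c) / M (a, b), hmemV _⟩
  have hwline : ∀ s t : V, ∑ m, φV (X m) * ∏ c, (s * w0 c + t * w1 c) ^ m.1 c = 0 := by
    intro s t
    apply Subtype.val_injective
    push_cast
    have hc : ∀ c, (s : L) * (w0 c : L) + (t : L) * (w1 c : L) =
        ((s : L) * u1 b - (t : L) * u1 a) / M (a, b) * u0 c + ((t : L) * u0 a - (s : L) * u0 b) / M (a, b) * u1 c :=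
      fun c => by
        show (s : L) * (M (c, b) / M (a, b)) + (t : L) * (M (a, c) / M (a, b)) = _
        simp only [M]
        ring
    simp only [hc]
    exact hline _ _
  let y : Fin 2 × Fin (n + 2) → IsLocalRing.ResidueField V :=
    fun p => IsLocalRing.residue V (if p.1 = 0 then w0 p.2 else w1 p.2)
  have hFline : ∀ s t : k, ∑ m : Mon (n + 2) (d + 1), algebraMap k (IsLocalRing.ResidueField V) (coeff m.1 f) *
      ∏ c, (algebraMap k _ s * y (0, c) + algebraMap k _ t * y (1, c)) ^ m.1 c = 0 := by
    intro s t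
    have := congrArg (IsLocalRing.residue V) (hwline (φV (C s)) (φV (C t)))
    rw [map_zero, map_sum] at this
    rw [← this]
    refine Finset.sum_congr rfl fun m _ => ?_
    have hm : algebraMap k (IsLocalRing.ResidueField V) (coeff m.1 f) = IsLocalRing.residue V (φV (X m)) := by
      rw [show coeff m.1 f = ε (X m) by simp [ε]]
      exact (hψ (X m)).symm
    have hc : ∀ s : k, algebraMap k (IsLocalRing.ResidueField V) s = IsLocalRing.residue V (φV (C s)) := fun _ => rfl
    rw [map_mul, hm, map_prod]
    simp [y, hc]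
  -- descend to the ground field
  let W0 : Fin (n + 2) → MvPolynomial (Fin 2 × Fin (n + 2)) k := fun c => X (0, c)
  let W1 : Fin (n + 2) → MvPolynomial (Fin 2 × Fin (n + 2)) k := fun c => X (1, c)
  let E : Set (MvPolynomial (Fin 2 × Fin (n + 2)) k) :=
    {W0 a - 1, W0 b, W1 a, W1 b - 1} ∪
      Set.range fun st : k × k => ∑ m : Mon (n + 2) (d + 1), C (coeff m.1 f) * ∏ c, (C st.1 * W0 c + C st.2 * W1 c) ^ m.1 c
  have hne : Ideal.span E ≠ ⊤ := by
    intro htop
    have hle : Ideal.span E ≤ RingHom.ker (aeval y : MvPolynomial (Fin 2 × Fin (n + 2)) k →ₐ[k] _) := by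
      rw [Ideal.span_le]
      have haa : M (a, a) = 0 := sub_self _
      have hbb : M (b, b) = 0 := sub_self _
      rintro p (hp | ⟨⟨s, t⟩, rfl⟩)
      · have ea : w0 a = 1 := Subtype.ext (div_self hMab)
        have eb : w0 b = 0 := Subtype.ext (show M (b, b) / M (a, b) = 0 by rw [hbb, zero_div])
        have ec : w1 a = 0 := Subtype.ext (show M (a, a) / M (a, b) = 0 by rw [haa, zero_div])
        have ed : w1 b = 1 := Subtype.ext (div_self hMab)
        rcases hp with rfl | rfl | rfl | rfl <;> simp [W0, W1, y, ea, eb, ec, ed]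
      · simp only [SetLike.mem_coe, RingHom.mem_ker, map_sum, map_mul, map_prod, map_pow, map_add, aeval_C, W0, W1,
          aeval_X]
        exact hFline s t
    exact (RingHom.ker_ne_top _) (top_le_iff.1 (htop ▸ hle))
  obtain ⟨I, hImax, hEI⟩ := Ideal.exists_le_maximal _ hne
  obtain ⟨z, rfl⟩ := (MvPolynomial.isMaximal_iff_eq_vanishingIdeal_singleton).1 hImax
  have hz : ∀ p ∈ E, eval z p = 0 := fun p hp => by
    have := (mem_vanishingIdeal_singleton_iff z p).1 (hEI (Ideal.subset_span hp))
    simpa using this
  let v0 : Fin (n + 2) → k := fun c => z (0, c)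
  let v1 : Fin (n + 2) → k := fun c => z (1, c)
  have hli : LinearIndependent k ![v0, v1] := by
    have ea : v0 a = 1 := sub_eq_zero.1 (by simpa [W0] using hz (W0 a - 1) (Or.inl (Or.inl rfl)))
    have eb : v0 b = 0 := by simpa [W0] using hz (W0 b) (Or.inl (Or.inr (Or.inl rfl)))
    have ec : v1 a = 0 := by simpa [W1] using hz (W1 a) (Or.inl (Or.inr (Or.inr (Or.inl rfl))))
    have ed : v1 b = 1 := sub_eq_zero.1 (by simpa [W1] using hz (W1 b - 1) (Or.inl (Or.inr (Or.inr (Or.inr rfl)))))
    refine LinearIndependent.pair_iff.2 fun s t hst => ⟨?_, ?_⟩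
    · simpa [ea, ec] using congrFun hst a
    · simpa [eb, ed] using congrFun hst b
  refine ⟨Submodule.span k (Set.range ![v0, v1]), by rw [finrank_span_eq_card hli, Fintype.card_fin], fun u hu => ?_⟩
  obtain ⟨st, rfl⟩ := (Submodule.mem_span_range_iff_exists_fun k).1 hu
  rw [eval_eq_sum hf]
  have := hz _ (Or.inr ⟨(st 0, st 1), rfl⟩)
  simpa [W0, W1, v0, v1, Fin.sum_univ_two] using this

end Groth.L14.Fano
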