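import Groth.Agent.L14.Fano.PointedLines
import Mathlib.Algebra.MvPolynomial.PDeriv
import Mathlib.Algebra.MvPolynomial.Rename
import Mathlib.RingTheory.MvPolynomial.EulerIdentity
import Mathlib.LinearAlgebra.FiniteDimensional.Lemmas

/-!
A general form containing a small linear subspace defines a smooth hypersurface.
-/

set_option autoImplicit false
universe u

open MvPolynomial

namespace Groth.L14.Fano.Sm

variable {k : Type u} [Field k] {n d u : ℕ}

/-- The monomials of forms vanishing on the first `u` coordinates. -/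
abbrev WMon (n d u : ℕ) : Type := {μ : Mon (n + 1) d // ∃ c : Fin (n + 1), u ≤ c.1 ∧ μ.1 c ≠ 0}

variable (u) in
/-- The free coordinates of a point in a chart. -/
abbrev Par (a : Fin (n + 1)) : Type := {c : Fin (n + 1) // c ≠ a ∧ (a.1 < u → c.1 < u)}

/-- The monomials that survive in a chart. -/
abbrev Kept (d u : ℕ) (a : Fin (n + 1)) : Type := {μ : WMon n d u // μ.1.1 a + 1 < d}

/-- A point of the chart. -/
def pt {S : Type*} [CommRing S] (a : Fin (n + 1)) (v : Par u a → S) : Fin (n + 1) → S :=
  fun c => if h : c ≠ a ∧ (a.1 < u → c.1 < u) then v ⟨c, h⟩ else if c = a then 1 else 0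

/-- The coordinates adapted to a point. -/
noncomputable def shear {S : Type*} [CommRing S] (a : Fin (n + 1)) (w : Fin (n + 1) → S) (c : Fin (n + 1)) :
    MvPolynomial (Fin (n + 1)) S :=
  if c = a then MvPolynomial.X a else MvPolynomial.X c - C (w c) * MvPolynomial.X a

/-- The general singular form of a chart. -/
noncomputable def singForm {S : Type*} [CommRing S] (a : Fin (n + 1)) (v : Par u a → S) (T : Kept d u a → S) :
    MvPolynomial (Fin (n + 1)) S :=
  ∑ μ, C (T μ) * ∏ c, shear a (pt a v) c ^ μ.1.1.1 c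

theorem map_singForm {S S' : Type*} [CommRing S] [CommRing S'] (f : S →+* S') (a : Fin (n + 1)) (v : Par u a → S)
    (T : Kept d u a → S) : MvPolynomial.map f (singForm a v T) = singForm a (f ∘ v) (f ∘ T) := by
  simp only [singForm, map_sum, map_mul, map_prod, map_pow, map_C]
  refine Finset.sum_congr rfl fun o _ => ?_
  congr 1
  refine Finset.prod_congr rfl fun c _ => ?_
  congr 1
  simp only [shear, pt]
  split_ifs <;> simp

theorem card_kept_add_card_par_lt (hd : 2 ≤ d) (hu : 2 * u ≤ n + 1) (a : Fin (n + 1)) :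
    Fintype.card (Par u a) + Fintype.card (Kept d u a) < Fintype.card (WMon n d u) := by
  classical
  have hsplit : Fintype.card (Kept d u a) + Fintype.card {μ : WMon n d u // ¬ μ.1.1 a + 1 < d} =
      Fintype.card (WMon n d u) := by
    rw [← Fintype.card_sum, Fintype.card_congr (Equiv.sumCompl fun μ : WMon n d u => μ.1.1 a + 1 < d)]
  let Exc : Type := {c : Fin (n + 1) // u ≤ a.1 ∨ u ≤ c.1}
  let f : Exc → {μ : WMon n d u // ¬ μ.1.1 a + 1 < d} := fun c =>
    ⟨⟨⟨Finsupp.single a (d - 1) + Finsupp.single c.1 1, by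
      rw [map_add, Finsupp.degree_single, Finsupp.degree_single]; omega⟩,
      if h : u ≤ a.1 then ⟨a, h, by simp; omega⟩ else ⟨c.1, c.2.resolve_left h, by simp⟩⟩, by simp; omega⟩
  have hf : Function.Injective f := fun c c' h => by
    have h' := congrArg (fun μ => μ.1.1.1) h
    exact Subtype.ext (Finsupp.single_left_injective one_ne_zero (add_left_cancel h'))
  have h1 := Fintype.card_le_of_injective f hf
  have h2 : Fintype.card (Par u a) < Fintype.card Exc := by
    by_cases ha : u ≤ a.1
    · have e1 : Fintype.card (Par u a) ≤ Fintype.card {c : Fin (n + 1) // ¬ c = a} :=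
        Fintype.card_le_of_injective (fun c => ⟨c.1, c.2.1⟩) fun c c' h =>
          Subtype.ext (Subtype.mk.inj h)
      have e2 : Fintype.card (Fin (n + 1)) ≤ Fintype.card Exc :=
        Fintype.card_le_of_injective (fun c => ⟨c, Or.inl ha⟩) fun c c' h => Subtype.mk.inj h
      rw [Fintype.card_subtype_compl, Fintype.card_subtype_eq, Fintype.card_fin] at e1
      rw [Fintype.card_fin] at e2
      omega
    · have ha' : a.1 < u := not_le.1 ha
      let g : Par u a → {c : Fin u // ¬ c = ⟨a.1, ha'⟩} := fun c =>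
        ⟨⟨c.1.1, c.2.2 ha'⟩, fun h => c.2.1 (Fin.ext (Fin.mk.inj h))⟩
      have hg : Function.Injective g := fun c c' h =>
        Subtype.ext (Fin.ext (Fin.mk.inj (Subtype.mk.inj h)))
      have e1 := Fintype.card_le_of_injective g hg
      let g' : Fin (n + 1 - u) → Exc := fun i => ⟨⟨u + i.1, by omega⟩, Or.inr (Nat.le_add_right _ _)⟩
      have hg' : Function.Injective g' := fun i i' h => by
        have := Fin.mk.inj (Subtype.mk.inj h)
        exact Fin.ext (by omega)
      have e2 := Fintype.card_le_of_injective g' hg'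
      rw [Fintype.card_subtype_compl, Fintype.card_subtype_eq, Fintype.card_fin] at e1
      rw [Fintype.card_fin] at e2
      omega
  omega

theorem exists_relation_chart (hd : 2 ≤ d) (hu : 2 * u ≤ n + 1) (a : Fin (n + 1)) :
    ∃ R : MvPolynomial (WMon n d u) k, R ≠ 0 ∧ ∀ (v : Par u a → k) (T : Kept d u a → k),
      eval (fun μ : WMon n d u => coeff μ.1.1 (singForm a v T)) R = 0 := by
  classical
  let σ := Par u a ⊕ Kept d u a
  let F : MvPolynomial (Fin (n + 1)) (MvPolynomial σ k) :=
    singForm a (fun c => MvPolynomial.X (Sum.inl c)) (fun μ => MvPolynomial.X (Sum.inr μ))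
  obtain ⟨R, hR0, hR⟩ := exists_relation (fun μ : WMon n d u => coeff μ.1.1 F)
    (by rw [Fintype.card_sum]; exact card_kept_add_card_par_lt hd hu a)
  refine ⟨R, hR0, fun v T => ?_⟩
  have := congrArg (eval (Sum.elim v T)) hR
  rw [map_zero, eval_aeval_comp] at this
  refine Eq.trans ?_ this
  congr 2
  funext μ
  rw [← coeff_map, map_singForm]
  congr 2 <;> funext i <;> simp

theorem eval_single_of_homogeneous {m D : ℕ} {G : MvPolynomial (Fin m) k} (hG : G.IsHomogeneous D) (a : Fin m) :
    eval (fun c => if c = a then 1 else 0) G = coeff (Finsupp.single a D) G := by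
  classical
  rw [eval_eq_sum hG, Finset.sum_eq_single ⟨Finsupp.single a D, Finsupp.degree_single _ _⟩]
  · rw [Finset.prod_eq_single a]
    · simp
    · intro c _ hc; simp [hc, Finsupp.single_eq_of_ne hc]
    · intro h; exact absurd (Finset.mem_univ a) h
  · intro ν _ hν
    obtain ⟨c, hca, hc⟩ : ∃ c, c ≠ a ∧ ν.1 c ≠ 0 := by
      by_contra h0
      push Not at h0
      refine hν (Subtype.ext (Finsupp.ext fun c => ?_))
      rcases eq_or_ne c a with rfl | h
      · have := ν.2
        rw [Finsupp.degree_eq_sum, Finset.sum_eq_single c (fun b _ hb => h0 b hb) (by simp)] at this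
        simpa using this
      · simp [Finsupp.single_eq_of_ne h, h0 c h]
    rw [Finset.prod_eq_zero (Finset.mem_univ c) (by rw [if_neg hca, zero_pow hc]), mul_zero]
  · intro h; exact absurd (Finset.mem_univ _) h

theorem pderiv_bind {m : ℕ} (f : Fin m → MvPolynomial (Fin m) k) (c : Fin m) (G : MvPolynomial (Fin m) k) :
    pderiv c (bind₁ f G) = ∑ i, pderiv c (f i) * bind₁ f (pderiv i G) := by
  classical
  induction G using MvPolynomial.induction_on with
  | C a => simp
  | add x y hx hy => simp only [map_add, hx, hy, mul_add, Finset.sum_add_distrib]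
  | mul_X x j hx =>
    rw [map_mul, bind₁_X_right, Derivation.leibniz, hx, smul_eq_mul, smul_eq_mul, Finset.mul_sum]
    simp only [Derivation.leibniz, smul_eq_mul, map_add, map_mul, bind₁_X_right, pderiv_X, mul_add,
      Finset.sum_add_distrib]
    congr 1
    · rw [Finset.sum_eq_single j]
      · simp [mul_comm]
      · intro i _ hij; simp [Ne.symm hij]
      · intro hj; exact absurd (Finset.mem_univ j) hj
    · exact Finset.sum_congr rfl fun i _ => by ring

theorem coeff_low_eq_zero [Infinite k] (hun : u ≤ n + 1) {G : MvPolynomial (Fin (n + 1)) k}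
    (h : ∀ x : Fin (n + 1) → k, (∀ c : Fin (n + 1), u ≤ c.1 → x c = 0) → eval x G = 0)
    (μ : Fin (n + 1) →₀ ℕ) (hμ : ∀ c : Fin (n + 1), u ≤ c.1 → μ c = 0) : coeff μ G = 0 := by
  classical
  let e : Fin u → Fin (n + 1) := Fin.castLE hun
  have he : Function.Injective e := Fin.castLE_injective hun
  have h0 : killCompl he G = 0 := MvPolynomial.funext fun y => by
    let x : Fin (n + 1) → k := fun c => if hc : c.1 < u then y ⟨c.1, hc⟩ else 0
    rw [map_zero, ← h x fun c hc => dif_neg (not_lt.2 hc)]
    clear h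
    induction G using MvPolynomial.induction_on with
    | C a => simp
    | add p q hp hq => simp only [map_add, hp, hq]
    | mul_X p c hp =>
      rw [map_mul, map_mul, map_mul, hp, eval_X]
      congr 1
      rw [killCompl, aeval_X]
      by_cases hc : c.1 < u
      · have hr : c ∈ Set.range e := ⟨⟨c.1, hc⟩, Fin.ext rfl⟩
        rw [dif_pos hr, eval_X]
        have h1 : (Equiv.ofInjective e he).symm ⟨c, hr⟩ = ⟨c.1, hc⟩ := by
          rw [Equiv.symm_apply_eq]; exact Subtype.ext (Fin.ext rfl)
        rw [h1]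
        simp [x, hc]
      · rw [dif_neg fun ⟨i, hi⟩ => hc (by rw [← hi]; exact i.2), map_zero]
        simp [x, hc]
  have hsupp : ↑μ.support ⊆ Set.range e := fun c hc => by
    have : c.1 < u := not_le.1 fun hle => Finsupp.mem_support_iff.1 hc (hμ c hle)
    exact ⟨⟨c.1, this⟩, Fin.ext rfl⟩
  have := congrArg (coeff (μ.comapDomain e he.injOn)) h0
  rwa [coeff_killCompl, Finsupp.mapDomain_comapDomain _ he _ hsupp, coeff_zero] at this

/-- A form vanishing on the coordinate subspace and singular at a point comes from a chart. -/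
theorem exists_singData [Infinite k] (hd : 2 ≤ d) (hun : u ≤ n + 1) {G : MvPolynomial (Fin (n + 1)) k}
    (hG : G.IsHomogeneous d) (hGU : ∀ x : Fin (n + 1) → k, (∀ c : Fin (n + 1), u ≤ c.1 → x c = 0) → eval x G = 0)
    (a : Fin (n + 1)) (v : Par u a → k) (hv : eval (pt a v) G = 0)
    (hdv : ∀ i, eval (pt a v) (pderiv i G) = 0) : ∃ T : Kept d u a → k, singForm a v T = G := by
  classical
  set w := pt a v with hw
  have hwa : w a = 1 := by simp [hw, pt]
  have hwlow : a.1 < u → ∀ c : Fin (n + 1), u ≤ c.1 → w c = 0 := fun ha c hc => by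
    have h1 : ¬ (c ≠ a ∧ (a.1 < u → c.1 < u)) := fun h => by have := h.2 ha; omega
    have h2 : c ≠ a := fun h => by rw [h] at hc; omega
    simp only [hw, pt, dif_neg h1, if_neg h2]
  let back : Fin (n + 1) → MvPolynomial (Fin (n + 1)) k := fun c =>
    if c = a then MvPolynomial.X a else MvPolynomial.X c + C (w c) * MvPolynomial.X a
  let H := bind₁ back G
  have hH : H.IsHomogeneous d := by
    have := hG.aeval back (n := 1) fun c => by
      simp only [back]
      split_ifs with h
      · exact isHomogeneous_X k a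
      · exact (isHomogeneous_X k c).add (isHomogeneous_C_mul_X _ _)
    simpa [H] using this
  have hback : ∀ x c, eval x (back c) = if c = a then x a else x c + w c * x a := fun x c => by
    simp only [back]; split_ifs <;> simp
  have hback_e : (fun c => eval (fun c => if c = a then (1 : k) else 0) (back c)) = w := funext fun c => by
    rw [hback]
    by_cases h : c = a
    · simp [h, hwa]
    · simp [h]
  have hlow : ∀ μ : Fin (n + 1) →₀ ℕ, (∀ c : Fin (n + 1), u ≤ c.1 → μ c = 0) → coeff μ H = 0 :=
    coeff_low_eq_zero hun fun x hx => by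
      rw [eval_bind]
      refine hGU _ fun c hc => ?_
      rw [hback]
      by_cases ha : u ≤ a.1
      · split_ifs with h
        · exact hx a ha
        · rw [hx c hc, hx a ha]; simp
      · rw [if_neg fun h => ha (by rw [h] at hc; exact hc), hx c hc, hwlow (not_le.1 ha) c hc]; simp
  have htop : coeff (Finsupp.single a d) H = 0 := by
    rw [← eval_single_of_homogeneous hH, eval_bind, hback_e, hv]
  have hexc : ∀ c, c ≠ a → coeff (Finsupp.single a (d - 1) + Finsupp.single c 1) H = 0 := fun c hc => by
    have h1 := eval_single_of_homogeneous (hH.pderiv (i := c)) a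
    rw [coeff_pderiv, Finsupp.single_eq_of_ne hc, Nat.cast_zero, zero_add, mul_one] at h1
    rw [← h1, pderiv_bind, map_sum]
    refine Finset.sum_eq_zero fun i _ => ?_
    rw [map_mul, eval_bind, hback_e, hdv, mul_zero]
  have hbad : ∀ μ : Mon (n + 1) d, ¬ μ.1 a + 1 < d → coeff μ.1 H = 0 := fun μ hμ => by
    have hdeg := μ.2
    rw [Finsupp.degree_eq_sum, ← Finset.add_sum_erase _ _ (Finset.mem_univ a)] at hdeg
    by_cases h0 : μ.1 a = d
    · rw [show μ.1 = Finsupp.single a d from Finsupp.ext fun c => ?_, htop]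
      rcases eq_or_ne c a with rfl | hc
      · simp [h0]
      · rw [Finsupp.single_eq_of_ne hc]
        have : μ.1 c ≤ ∑ y ∈ Finset.univ.erase a, μ.1 y :=
          Finset.single_le_sum (fun _ _ => Nat.zero_le _) (by simp [hc])
        omega
    · obtain ⟨c, hca, hc⟩ : ∃ c, c ≠ a ∧ μ.1 c ≠ 0 := by
        by_contra hh
        push Not at hh
        rw [Finset.sum_eq_zero fun c hc => hh c (Finset.ne_of_mem_erase hc)] at hdeg
        omega
      have hle : μ.1 c ≤ ∑ y ∈ Finset.univ.erase a, μ.1 y :=
        Finset.single_le_sum (fun _ _ => Nat.zero_le _) (by simp [hca])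
      rw [show μ.1 = Finsupp.single a (d - 1) + Finsupp.single c 1 from Finsupp.ext fun b => ?_, hexc c hca]
      rcases eq_or_ne b a with rfl | hb
      · simp [Finsupp.single_eq_of_ne hca.symm]; omega
      rcases eq_or_ne b c with rfl | hbc
      · simp [Finsupp.single_eq_of_ne hb]; omega
      · have hb' : μ.1 b + μ.1 c ≤ ∑ y ∈ Finset.univ.erase a, μ.1 y := by
          rw [← Finset.sum_pair hbc]
          exact Finset.sum_le_sum_of_subset (by
            intro y hy; simp only [Finset.mem_insert, Finset.mem_singleton] at hy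
            rcases hy with rfl | rfl <;> simp [*])
        simp [Finsupp.single_eq_of_ne hb, Finsupp.single_eq_of_ne hbc]; omega
  refine ⟨fun μ => coeff μ.1.1.1 H, MvPolynomial.funext fun x => ?_⟩
  let z : Fin (n + 1) → k := fun c => if c = a then x a else x c - w c * x a
  have hz : eval x G = eval z H := by
    rw [eval_bind]
    congr 2
    funext c
    rw [hback]
    simp only [z]
    split_ifs with h
    · simp [h]
    · simp
  have hl : ∀ c, eval x (shear a w c) = z c := fun c => by
    simp only [shear, z]; split_ifs <;> simp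
  rw [hz, eval_eq_sum hH]
  simp only [singForm, map_sum, map_mul, map_prod, map_pow, eval_C, ← hw, hl]
  let em : Kept d u a ↪ Mon (n + 1) d := ⟨fun μ => μ.1.1, fun μ ν h => Subtype.ext (Subtype.ext h)⟩
  rw [← Finset.sum_subset (Finset.subset_univ (Finset.univ.map em)) fun μ _ hμ => ?_]
  · rw [Finset.sum_map]; rfl
  · rw [Finset.mem_map] at hμ
    by_cases hW : ∃ c : Fin (n + 1), u ≤ c.1 ∧ μ.1 c ≠ 0
    · by_cases hk : μ.1 a + 1 < d
      · exact absurd ⟨⟨⟨μ, hW⟩, hk⟩, Finset.mem_univ _, rfl⟩ hμ
      · rw [hbad μ hk, zero_mul]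
    · push Not at hW
      rw [hlow μ.1 hW, zero_mul]

theorem eval_smul {m D : ℕ} {G : MvPolynomial (Fin m) k} (hG : G.IsHomogeneous D) (c : k) (v : Fin m → k) :
    eval (c • v) G = c ^ D * eval v G := by
  rw [eval_eq_sum hG, eval_eq_sum hG, Finset.mul_sum]
  refine Finset.sum_congr rfl fun μ _ => ?_
  simp only [Pi.smul_apply, smul_eq_mul, mul_pow, Finset.prod_mul_distrib, Finset.prod_pow_eq_pow_sum]
  rw [← Finsupp.degree_eq_sum, μ.2]
  ring

/-- An equivalence of the ambient space carrying the first coordinates onto the subspace. -/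
theorem exists_adapted (U : Submodule k (Fin (n + 1) → k)) :
    ∃ M : (Fin (n + 1) → k) ≃ₗ[k] (Fin (n + 1) → k), ∀ x, M x ∈ U ↔
      ∀ c : Fin (n + 1), Module.finrank k U ≤ c.1 → x c = 0 := by
  classical
  obtain ⟨U', hU'⟩ := U.exists_isCompl
  have hsum : Module.finrank k U + Module.finrank k U' = n + 1 := by
    rw [Submodule.finrank_add_eq_of_isCompl hU', Module.finrank_fin_fun]
  let B : Module.Basis (Fin (n + 1)) k (Fin (n + 1) → k) :=
    ((((Module.finBasis k U).prod (Module.finBasis k U')).map (Submodule.prodEquivOfIsCompl U U' hU')).reindex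
      (finSumFinEquiv.trans (finCongr hsum)))
  refine ⟨B.equivFun.symm, fun x => ?_⟩
  set y := (Submodule.prodEquivOfIsCompl U U' hU').symm (B.equivFun.symm x) with hy
  have hmem : B.equivFun.symm x ∈ U ↔ y.2 = 0 := (Submodule.prodEquivOfIsCompl_symm_apply_snd_eq_zero U U' hU').symm
  have hco : ∀ (i : Fin (Module.finrank k U')),
      (Module.finBasis k U').repr y.2 i = x (finCongr hsum (finSumFinEquiv (Sum.inr i))) := fun i => by
    have h1 : B.repr (B.equivFun.symm x) = Finsupp.equivFunOnFinite.symm x := by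
      ext c
      exact congrFun (B.equivFun.apply_symm_apply x) c
    have h2 := DFunLike.congr_fun h1 (finCongr hsum (finSumFinEquiv (Sum.inr i)))
    simp only [B, Module.Basis.repr_reindex_apply, Equiv.symm_trans_apply, Equiv.symm_apply_apply,
      Module.Basis.map_repr, LinearEquiv.trans_apply, Module.Basis.prod_repr_inr] at h2
    simpa [hy, B] using h2
  rw [hmem]
  constructor
  · intro h0 c hc
    have hi : c.1 - Module.finrank k U < Module.finrank k U' := by have := c.2; omega
    have := hco ⟨c.1 - Module.finrank k U, hi⟩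
    rw [h0, map_zero, Finsupp.zero_apply] at this
    rw [this]
    congr 1
    apply Fin.ext
    simp
    omega
  · intro h
    refine (Module.finBasis k U').repr.injective (Finsupp.ext fun i => ?_)
    rw [map_zero, Finsupp.zero_apply, hco]
    exact h _ (by simp)

theorem generic_smooth [Infinite k] (hd : 2 ≤ d) (U : Submodule k (Fin (n + 1) → k))
    (hU : 2 * Module.finrank k ↥U ≤ n + 1) (W : Submodule k (LefPen.Form n k d))
    (hW : ∀ G : LefPen.Form n k d, G ∈ W ↔ ∀ u ∈ U, MvPolynomial.eval u G.1 = 0) :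
    LefPen.IsGeneric k {G : ↥W | ∀ v : Fin (n + 1) → k, v ≠ 0 → MvPolynomial.eval v G.1.1 = 0 →
      ∃ i : Fin (n + 1), MvPolynomial.eval v (MvPolynomial.pderiv i G.1.1) ≠ 0} := by
  classical
  obtain ⟨M, hM⟩ := exists_adapted U
  set u0 := Module.finrank k U
  have hun : u0 ≤ n + 1 := by omega
  let sub : ((Fin (n + 1) → k) ≃ₗ[k] (Fin (n + 1) → k)) → Fin (n + 1) → MvPolynomial (Fin (n + 1)) k := fun N i =>
    ∑ j, C (N (Pi.single j 1) i) * MvPolynomial.X j
  have hsub : ∀ N x G, eval x (bind₁ (sub N) G) = eval (N x) G := fun N x G => by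
    rw [eval_bind]
    congr 2
    funext i
    conv_rhs => rw [pi_eq_sum_univ' x, map_sum, Finset.sum_apply]
    simp only [sub, map_sum, map_mul, eval_C, eval_X, map_smul, Pi.smul_apply, smul_eq_mul]
    exact Finset.sum_congr rfl fun j _ => mul_comm _ _
  have hsubh : ∀ N (G : MvPolynomial (Fin (n + 1)) k), G.IsHomogeneous d → (bind₁ (sub N) G).IsHomogeneous d :=
    fun N G hG => by
      have := hG.aeval (sub N) (n := 1) fun i => IsHomogeneous.sum _ _ _ fun j _ => isHomogeneous_C_mul_X _ _
      simpa using this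
  let cf : WMon n d u0 → Module.Dual k ↥W := fun μ =>
    (MvPolynomial.lcoeff k μ.1.1).comp ((bind₁ (sub M)).toLinearMap.comp
      ((Submodule.subtype _).comp W.subtype))
  have hcf : ∀ μ (G : ↥W), cf μ G = coeff μ.1.1 (bind₁ (sub M) G.1.1) := fun μ G => rfl
  choose R hR0 hR using fun a => exists_relation_chart (k := k) (n := n) (d := d) (u := u0) hd hU a
  have hpoly : ∀ Q : MvPolynomial (WMon n d u0) k,
      LefPen.IsPolyFun k fun G : ↥W => eval (fun μ => cf μ G) Q := fun Q => by
    unfold LefPen.IsPolyFun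
    induction Q using MvPolynomial.induction_on with
    | C a => simp only [eval_C]; exact Subalgebra.algebraMap_mem (Algebra.adjoin k _) a
    | add p q hp hq => simp only [map_add]; exact Subalgebra.add_mem _ hp hq
    | mul_X p μ hp =>
      simp only [map_mul, eval_X]
      exact Subalgebra.mul_mem _ hp (Algebra.subset_adjoin ⟨cf μ, rfl⟩)
  refine ⟨_, hpoly (∏ a, R a), ?_, fun G hG v hv hv0 => ?_⟩
  · obtain ⟨t, ht⟩ : ∃ t : WMon n d u0 → k, eval t (∏ a, R a) ≠ 0 := by
      by_contra hc
      push Not at hc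
      exact (Finset.prod_ne_zero_iff.2 fun a _ => hR0 a)
        (MvPolynomial.funext fun t => by rw [hc t, map_zero] : ∏ a, R a = 0)
    let H : MvPolynomial (Fin (n + 1)) k := ∑ μ : WMon n d u0, monomial μ.1.1 (t μ)
    have hH : H.IsHomogeneous d := IsHomogeneous.sum _ _ _ fun μ _ => isHomogeneous_monomial _ μ.1.2
    have hGW : (⟨bind₁ (sub M.symm) H, hsubh _ _ hH⟩ : LefPen.Form n k d) ∈ W := (hW _).2 fun u hu => by
      rw [hsub]
      have hx := (hM (M.symm u)).1 (by rwa [M.apply_symm_apply])
      simp only [H, map_sum, eval_monomial]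
      refine Finset.sum_eq_zero fun μ _ => ?_
      obtain ⟨c, hc, hc'⟩ := μ.2
      rw [Finsupp.prod_fintype _ _ fun i => pow_zero _, Finset.prod_eq_zero (Finset.mem_univ c)
        (by rw [hx c hc, zero_pow hc']), mul_zero]
    refine ⟨⟨_, hGW⟩, ?_⟩
    convert ht using 3
    funext μ
    rw [hcf, show bind₁ (sub M) (bind₁ (sub M.symm) H) = H from
      MvPolynomial.funext fun x => by rw [hsub, hsub, M.symm_apply_apply]]
    simp only [H, coeff_sum, coeff_monomial]
    rw [Finset.sum_eq_single μ]
    · rw [if_pos rfl]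
    · intro ν _ hν; rw [if_neg fun h => hν (Subtype.ext (Subtype.ext h))]
    · intro h; exact absurd (Finset.mem_univ μ) h
  · by_contra hc
    push Not at hc
    let G0 := bind₁ (sub M) G.1.1
    have hG0 : G0.IsHomogeneous d := hsubh _ _ G.1.2
    have hG0U : ∀ x : Fin (n + 1) → k, (∀ c : Fin (n + 1), u0 ≤ c.1 → x c = 0) → eval x G0 = 0 := fun x hx => by
      rw [hsub]; exact (hW G.1).1 G.2 _ ((hM x).2 hx)
    set w := M.symm v with hw
    have hw0 : w ≠ 0 := fun h => hv (by simpa [hw] using h)
    have hwv : M w = v := M.apply_symm_apply v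
    have hval : eval w G0 = 0 := by rw [hsub, hwv, hv0]
    have hder : ∀ i, eval w (pderiv i G0) = 0 := fun i => by
      rw [pderiv_bind, map_sum]
      refine Finset.sum_eq_zero fun j _ => ?_
      rw [map_mul, hsub, hwv, hc j, mul_zero]
    obtain ⟨a, hwa, hlow⟩ : ∃ a, w a ≠ 0 ∧ (a.1 < u0 → ∀ c : Fin (n + 1), u0 ≤ c.1 → w c = 0) := by
      by_cases hh : ∃ c : Fin (n + 1), u0 ≤ c.1 ∧ w c ≠ 0
      · obtain ⟨c, hc1, hc2⟩ := hh; exact ⟨c, hc2, fun h => absurd hc1 (not_le.2 h)⟩
      · push Not at hh
        obtain ⟨c, hc⟩ := Function.ne_iff.1 hw0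
        exact ⟨c, hc, fun _ => hh⟩
    let p : Par u0 a → k := fun c => (w a)⁻¹ * w c.1
    have hpt : pt a p = (w a)⁻¹ • w := funext fun c => by
      simp only [pt, p, Pi.smul_apply, smul_eq_mul]
      split_ifs with h h'
      · rfl
      · rw [h', inv_mul_cancel₀ hwa]
      · push Not at h
        obtain ⟨ha, hc1⟩ := h h'
        rw [hlow ha c hc1, mul_zero]
    obtain ⟨T, hT⟩ := exists_singData hd hun hG0 hG0U a p (by rw [hpt, eval_smul hG0, hval, mul_zero])
      (fun i => by rw [hpt, eval_smul (hG0.pderiv (i := i)), hder, mul_zero])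
    simp only [map_prod, Finset.prod_ne_zero_iff] at hG
    refine hG a (Finset.mem_univ a) ?_
    have := hR a p T
    rw [hT] at this
    exact this

end Groth.L14.Fano.Sm
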