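import Groth.Agent.L14.Fano.ExistsLine
import Groth.Prelude.Def_LefPen
import Mathlib.RingTheory.AlgebraicIndependent.TranscendenceBasis
import Mathlib.Data.Finsupp.Multiset
import Mathlib.Data.Sym.Card
import Mathlib.LinearAlgebra.Dual.Lemmas
import Mathlib.Algebra.MvPolynomial.Funext

/-!
Linear subspaces on a general hypersurface: there are none, resp. finitely many, when the incidence variety has
dimension less than, resp. at most, that of the space of forms.
-/

set_option autoImplicit false
universe u

open MvPolynomial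

namespace Groth.L14.Fano

variable {k : Type u} [Field k]

/-- More elements than parameters satisfy a relation. -/
theorem exists_relation {ι σ : Type} [Fintype ι] [Fintype σ] (p : ι → MvPolynomial σ k)
    (h : Fintype.card σ < Fintype.card ι) : ∃ R : MvPolynomial ι k, R ≠ 0 ∧ aeval p R = 0 := by
  by_contra hc
  push Not at hc
  have hind : AlgebraicIndependent k p := (injective_iff_map_eq_zero _).2 fun R hR => by
    by_contra h0; exact hc R h0 hR
  have h1 := hind.lift_cardinalMk_le_trdeg
  rw [MvPolynomial.trdeg_of_isDomain, Cardinal.mk_fintype, Cardinal.mk_fintype] at h1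
  simp only [Cardinal.lift_natCast, Nat.cast_le] at h1
  omega

theorem card_mon (n d : ℕ) : Fintype.card (Mon n d) = (n + d - 1).choose d := by
  classical
  let e : Mon n d ≃ Sym (Fin n) d := (Equiv.subtypeEquivRight fun m => by
    simp [Finsupp.degree_apply, Finsupp.sum]).trans (Sym.equivNatSum (Fin n) d).symm
  rw [Fintype.card_congr e, Sym.card_sym_eq_choose, Fintype.card_fin]

variable {m n d : ℕ} (e : Fin m ↪ Fin n)

/-- Coordinates off the pivots. -/
abbrev Off : Type := {c : Fin n // c ∉ Finset.univ.image e}

/-- Monomials using a coordinate off the pivots. -/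
abbrev Mixed (d : ℕ) : Type := {μ : Mon n d // ∃ c : Off e, μ.1 c.1 ≠ 0}

/-- The chart parameters. -/
abbrev CPar (d : ℕ) : Type := (Off e × Fin m) ⊕ Mixed e d

theorem card_mixed (d : ℕ) : Fintype.card (Mixed e d) + (m + d - 1).choose d = (n + d - 1).choose d := by
  classical
  rw [← card_mon n d, ← card_mon m d]
  let emb : Mon m d → {μ : Mon n d // ¬ ∃ c : Off e, μ.1 c.1 ≠ 0} := fun μ =>
    ⟨⟨μ.1.mapDomain e, (Finsupp.degree_mapDomain _ _).trans μ.2⟩, fun ⟨c, hc⟩ => hc (Finsupp.mapDomain_notin_range _ _ (by
      rintro ⟨i, hi⟩; exact c.2 (by rw [← hi]; simp)))⟩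
  have hbij : Function.Bijective emb := by
    constructor
    · intro μ ν h
      exact Subtype.ext (Finsupp.mapDomain_injective e.injective (congrArg (fun x => x.1.1) h))
    · rintro ⟨⟨μ, hμ⟩, hno⟩
      push Not at hno
      have hsupp : ↑μ.support ⊆ Set.range e := fun c hc => by
        by_contra hr
        exact Finsupp.mem_support_iff.1 hc (hno ⟨c, fun h => hr (by simpa using h)⟩)
      refine ⟨⟨μ.comapDomain e e.injective.injOn, ?_⟩, Subtype.ext (Subtype.ext
        (Finsupp.mapDomain_comapDomain _ e.injective _ hsupp))⟩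
      rw [← hμ, ← Finsupp.degree_mapDomain (f := e), Finsupp.mapDomain_comapDomain _ e.injective _ hsupp]
  rw [Fintype.card_congr (Equiv.ofBijective emb hbij), ← Fintype.card_sum, Fintype.card_congr (Equiv.sumCompl _)]

theorem card_off : Fintype.card (Off e) = n - m := by
  rw [Fintype.card_subtype_compl, Fintype.card_fin, Fintype.card_coe, Finset.card_image_of_injective _ e.injective,
    Finset.card_univ, Fintype.card_fin]

/-- The linear substitution of the chart. -/
noncomputable def ell (c : Fin n) : MvPolynomial (Fin n) (MvPolynomial (CPar e d) k) :=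
  if h : c ∈ Finset.univ.image e then X c else X c - ∑ i, C (X (Sum.inl (⟨c, h⟩, i))) * X (e i)

/-- The generic form containing the subspace of the chart. -/
noncomputable def genForm (k : Type u) [Field k] (d : ℕ) : MvPolynomial (Fin n) (MvPolynomial (CPar e d) k) :=
  ∑ μ : Mixed e d, C (X (Sum.inr μ)) * ∏ c, ell e c ^ μ.1.1 c

theorem eval_bind (x : Fin n → k) (f : Fin n → MvPolynomial (Fin n) k) (G : MvPolynomial (Fin n) k) :
    eval x (bind₁ f G) = eval (fun c => eval x (f c)) G := by
  induction G using MvPolynomial.induction_on with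
  | C a => simp
  | add a b ha hb => simp only [map_add, ha, hb]
  | mul_X a c ha => simp only [map_mul, ha, bind₁_X_right, eval_X]

/-- Normalised slopes of a subspace in the chart. -/
def InChart (U : Submodule k (Fin n → k)) (A : Off e × Fin m → k) : Prop :=
  ∀ x : Fin n → k, x ∈ U ↔ ∀ c : Off e, x c.1 = ∑ i, A (c, i) * x (e i)

theorem coeff_eq_of_inChart [Infinite k] {U : Submodule k (Fin n → k)} {A : Off e × Fin m → k} (hA : InChart e U A)
    {G : MvPolynomial (Fin n) k} (hG : G.IsHomogeneous d) (hGU : ∀ u ∈ U, eval u G = 0) :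
    ∃ B : Mixed e d → k, ∀ μ : Fin n →₀ ℕ,
      coeff μ G = eval (Sum.elim A B) (coeff μ (genForm e k d)) := by
  classical
  let y : Fin n → MvPolynomial (Fin n) k := fun c =>
    if h : c ∈ Finset.univ.image e then X c else X c + ∑ i, C (A (⟨c, h⟩, i)) * X (e i)
  let H : MvPolynomial (Fin n) k := bind₁ y G
  have hH : H.IsHomogeneous d := by
    have := hG.aeval y (n := 1) fun c => by
      simp only [y]
      split_ifs with h
      · exact isHomogeneous_X k c
      · exact (isHomogeneous_X k c).add (IsHomogeneous.sum _ _ _ fun i _ => isHomogeneous_C_mul_X _ _)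
    simpa [H] using this
  let B : Mixed e d → k := fun μ => coeff μ.1.1 H
  -- evaluation of the substitution
  let yx : (Fin n → k) → Fin n → k := fun x c =>
    if h : c ∈ Finset.univ.image e then x c else x c + ∑ i, A (⟨c, h⟩, i) * x (e i)
  let lx : (Fin n → k) → Fin n → k := fun x c =>
    if h : c ∈ Finset.univ.image e then x c else x c - ∑ i, A (⟨c, h⟩, i) * x (e i)
  have hpiv : ∀ i, e i ∈ Finset.univ.image e := fun i => Finset.mem_image_of_mem _ (Finset.mem_univ i)
  have hyl : ∀ x, yx (lx x) = x := fun x => funext fun c => by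
    simp only [yx, lx]
    split_ifs with h
    · rfl
    · simp [hpiv]
  have hevH : ∀ x, eval x H = eval (yx x) G := fun x => by
    have : (fun c => eval x (y c)) = yx x := funext fun c => by
      simp only [y, yx]; split_ifs <;> simp [map_sum]
    rw [← this]
    exact eval_bind x y G
  -- the coefficients on the pivots vanish
  have hpure : ∀ μ : Mon n d, (¬ ∃ c : Off e, μ.1 c.1 ≠ 0) → coeff μ.1 H = 0 := by
    intro μ hμ
    let π : Fin n → MvPolynomial (Fin n) k := fun c => if c ∈ Finset.univ.image e then X c else 0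
    have h0 : bind₁ π H = 0 := by
      refine MvPolynomial.funext fun x => ?_
      rw [map_zero]
      have hx : eval x (bind₁ π H) = eval (fun c => if c ∈ Finset.univ.image e then x c else 0) H := by
        rw [eval_bind]
        simp [π, apply_ite (eval x)]
      rw [hx, hevH]
      refine hGU _ ((hA _).2 fun c => ?_)
      simp only [yx, dif_neg c.2, if_neg c.2, zero_add]
      simp [hpiv]
    push Not at hμ
    have hc : coeff μ.1 (bind₁ π H) = coeff μ.1 H := by
      conv_lhs => rw [H.as_sum, map_sum, coeff_sum]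
      simp only [bind₁_monomial, π]
      rw [Finset.sum_eq_single μ.1]
      · rw [Finset.prod_congr rfl (g := fun c => (X c : MvPolynomial (Fin n) k) ^ μ.1 c) fun c hc => by
          rw [if_pos]
          by_contra hn
          exact Finsupp.mem_support_iff.1 hc (hμ ⟨c, hn⟩), prod_X_pow_eq_monomial, coeff_C_mul, coeff_monomial,
          if_pos rfl, mul_one]
      · intro ν _ hne
        by_cases hν : ∀ c ∈ ν.support, c ∈ Finset.univ.image e
        · rw [Finset.prod_congr rfl (g := fun c => (X c : MvPolynomial (Fin n) k) ^ ν c) fun c hc => by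
            rw [if_pos (hν c hc)], prod_X_pow_eq_monomial, coeff_C_mul, coeff_monomial, if_neg hne, mul_zero]
        · push Not at hν
          obtain ⟨c, hc, hce⟩ := hν
          rw [Finset.prod_eq_zero hc (by rw [if_neg hce, zero_pow (Finsupp.mem_support_iff.1 hc)]), mul_zero,
            coeff_zero]
      · intro h; rw [notMem_support_iff.1 h]; simp
    rw [← hc, h0, coeff_zero]
  refine ⟨B, fun μ => ?_⟩
  have hev : MvPolynomial.map (eval (Sum.elim A B)) (genForm e k d) = G := by
    refine MvPolynomial.funext fun x => ?_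
    conv_rhs => rw [← hyl x, ← hevH, eval_eq_sum hH]
    have hl : ∀ c, eval x (MvPolynomial.map (eval (Sum.elim A B)) (ell (k := k) e c)) = lx x c := fun c => by
      simp only [ell, lx]; split_ifs <;> simp [map_sum]
    simp only [genForm, map_sum, map_mul, map_prod, map_pow, map_C, eval_C, eval_X, Sum.elim_inr, hl, B]
    rw [← Finset.sum_subset (Finset.subset_univ (Finset.univ.filter fun μ : Mon n d => ∃ c : Off e, μ.1 c.1 ≠ 0))
      fun μ _ hμ => by rw [hpure μ fun h => hμ (Finset.mem_filter.2 ⟨Finset.mem_univ _, h⟩), zero_mul]]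
    exact (Finset.sum_subtype _ (fun μ => by simp) (fun μ : Mon n d => coeff μ.1 H * ∏ c, lx x c ^ μ.1 c)).symm
  rw [← coeff_map, hev]

/-- Every subspace of dimension `m` lies in some chart. -/
theorem exists_inChart (U : Submodule k (Fin n → k)) (hU : Module.finrank k U = m) :
    ∃ (e : Fin m ↪ Fin n) (A : Off e × Fin m → k), InChart e U A := by
  classical
  let π : Fin n → Module.Dual k U := fun c => (LinearMap.proj c).comp U.subtype
  have hspan : Submodule.span k (Set.range π) = ⊤ := by
    refine Submodule.span_eq_top_of_ne_zero ?_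
    intro u hu
    by_contra h
    push Not at h
    exact hu (Subtype.ext (funext fun c => h (π c) ⟨c, rfl⟩))
  obtain ⟨T, hTsub, hTspan, hTli⟩ := exists_linearIndependent k (Set.range π)
  rw [hspan] at hTspan
  let b : Module.Basis T k (Module.Dual k U) := Module.Basis.mk hTli (by rw [Subtype.range_coe, hTspan])
  haveI : Fintype T := FiniteDimensional.fintypeBasisIndex b
  have hcard : Fintype.card T = m := by rw [← Module.finrank_eq_card_basis b, Subspace.dual_finrank_eq, hU]
  let σ : Fin m ≃ T := (Fintype.equivFinOfCardEq hcard).symm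
  choose g hg using fun t : T => hTsub t.2
  let e : Fin m ↪ Fin n := ⟨fun i => g (σ i), fun i j h => σ.injective (Subtype.ext (by rw [← hg, ← hg]; exact congrArg π h))⟩
  let bσ := b.reindex σ.symm
  have hb : ∀ i, bσ i = π (e i) := fun i => by
    simp [bσ, b, e, hg]
  refine ⟨e, fun p => bσ.repr (π p.1.1) p.2, fun x => ⟨fun hx c => ?_, fun hx => ?_⟩⟩
  · have := DFunLike.congr_fun (bσ.sum_repr (π c.1)) ⟨x, hx⟩
    simp only [LinearMap.coe_sum, Finset.sum_apply, LinearMap.smul_apply, hb, smul_eq_mul] at this
    exact this.symm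
  · -- the pivot values determine a vector of the subspace
    let Φ : U →ₗ[k] (Fin m → k) := LinearMap.pi fun i => π (e i)
    have hinj : Function.Injective Φ := (injective_iff_map_eq_zero Φ).2 fun u hu => by
      refine (Module.forall_dual_apply_eq_zero_iff k u).1 fun φ => ?_
      rw [← bσ.sum_repr φ, LinearMap.coe_sum, Finset.sum_apply]
      refine Finset.sum_eq_zero fun i _ => ?_
      rw [LinearMap.smul_apply, hb, show π (e i) u = 0 from congrFun hu i, smul_zero]
    obtain ⟨u, hu⟩ := (LinearMap.injective_iff_surjective_of_finrank_eq_finrank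
      (by rw [hU, Module.finrank_fin_fun]) |>.1 hinj) fun i => x (e i)
    have hxu : x = (u : Fin n → k) := funext fun c => by
      by_cases hc : c ∈ Finset.univ.image e
      · obtain ⟨i, -, rfl⟩ := Finset.mem_image.1 hc
        exact (congrFun hu i).symm
      · rw [hx ⟨c, hc⟩]
        have := DFunLike.congr_fun (bσ.sum_repr (π c)) u
        simp only [LinearMap.coe_sum, Finset.sum_apply, LinearMap.smul_apply, hb, smul_eq_mul] at this
        refine Eq.trans ?_ this
        exact Finset.sum_congr rfl fun i _ => congrArg _ (congrFun hu i).symm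
    rw [hxu]; exact u.2

theorem inChart_unique {U U' : Submodule k (Fin n → k)} {A : Off e × Fin m → k} (h : InChart e U A)
    (h' : InChart e U' A) : U = U' := Submodule.ext fun x => (h x).trans (h' x).symm

theorem isPolyFun_eval {N D : ℕ} (R : MvPolynomial (Mon (N + 1) D) k) :
    LefPen.IsPolyFun k fun G : LefPen.Form N k D => eval (fun μ : Mon (N + 1) D => coeff μ.1 G.1) R := by
  let l : Mon (N + 1) D → Module.Dual k (LefPen.Form N k D) := fun μ =>
    (MvPolynomial.lcoeff k μ.1).comp (Submodule.subtype _)
  unfold LefPen.IsPolyFun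
  induction R using MvPolynomial.induction_on with
  | C a => simp only [eval_C]; exact Subalgebra.algebraMap_mem (Algebra.adjoin k _) a
  | add p q hp hq => simp only [map_add]; exact Subalgebra.add_mem _ hp hq
  | mul_X p μ hp =>
    simp only [map_mul, eval_X]
    exact Subalgebra.mul_mem _ hp (Algebra.subset_adjoin ⟨l μ, rfl⟩)

theorem isGeneric_of_ne_zero [Infinite k] {N D : ℕ} {S : Set (LefPen.Form N k D)} (R : MvPolynomial (Mon (N + 1) D) k)
    (hR : R ≠ 0) (h : ∀ G : LefPen.Form N k D, eval (fun μ : Mon (N + 1) D => coeff μ.1 G.1) R ≠ 0 → G ∈ S) :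
    LefPen.IsGeneric k S := by
  classical
  refine ⟨_, isPolyFun_eval R, ?_, h⟩
  by_contra hall
  push Not at hall
  refine hR (MvPolynomial.funext fun v => ?_)
  rw [map_zero]
  have hG : (∑ μ : Mon (N + 1) D, monomial μ.1 (v μ)) ∈ CohB1.polyGrading N k D :=
    IsHomogeneous.sum _ _ _ fun μ _ => isHomogeneous_monomial _ μ.2
  have := hall ⟨_, hG⟩
  convert this using 2
  congr 1
  funext μ
  rw [coeff_sum, Finset.sum_eq_single μ]
  · rw [coeff_monomial, if_pos rfl]
  · intro ν _ hν; rw [coeff_monomial, if_neg fun h => hν (Subtype.ext h)]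
  · intro hh; exact absurd (Finset.mem_univ μ) hh

theorem eval_aeval_comp {ι σ : Type} (pt : σ → k) (p : ι → MvPolynomial σ k) (R : MvPolynomial ι k) :
    eval pt (aeval p R) = eval (fun i => eval pt (p i)) R := by
  induction R using MvPolynomial.induction_on with
  | C a => simp
  | add x y hx hy => simp only [map_add, hx, hy]
  | mul_X x i hx => simp only [map_mul, hx, aeval_X, eval_X]

theorem generic_no_subspace [Infinite k] (N D M : ℕ) (h : M * (N + 1 - M) < (M + D - 1).choose D) :
    LefPen.IsGeneric k {G : LefPen.Form N k D | ∀ U : Submodule k (Fin (N + 1) → k),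
      Module.finrank k ↥U = M → (∀ u ∈ U, MvPolynomial.eval u G.1 = 0) → False} := by
  classical
  have hR : ∀ e : Fin M ↪ Fin (N + 1), ∃ R : MvPolynomial (Mon (N + 1) D) k, R ≠ 0 ∧
      aeval (fun μ : Mon (N + 1) D => coeff μ.1 (genForm e k D)) R = 0 := fun e => exists_relation _ (by
    have h1 := card_mixed e D
    rw [Fintype.card_sum, Fintype.card_prod, card_off e, Fintype.card_fin, card_mon]
    rw [mul_comm] at h
    omega)
  choose R hR0 hR using hR
  refine isGeneric_of_ne_zero (∏ e, R e) (Finset.prod_ne_zero_iff.2 fun e _ => hR0 e) fun G hG U hU hGU => ?_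
  obtain ⟨e, A, hA⟩ := exists_inChart U hU
  obtain ⟨B, hB⟩ := coeff_eq_of_inChart e hA G.2 hGU
  rw [map_prod, Finset.prod_ne_zero_iff] at hG
  apply hG e (Finset.mem_univ e)
  have := congrArg (eval (Sum.elim A B)) (hR e)
  rw [map_zero] at this
  refine Eq.trans ?_ this
  simp only [hB]
  exact (eval_aeval_comp _ _ _).symm

/-- With as many parameters as coefficients, each chart contains finitely many subspaces of a general form. -/
theorem generic_finite [Infinite k] (N D M : ℕ) (h : M * (N + 1 - M) ≤ (M + D - 1).choose D) :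
    LefPen.IsGeneric k {G : LefPen.Form N k D | {U : Submodule k (Fin (N + 1) → k) |
      Module.finrank k ↥U = M ∧ ∀ u ∈ U, MvPolynomial.eval u G.1 = 0}.Finite} := by
  classical
  let Ix : Type := Σ e : Fin M ↪ Fin (N + 1), Off e × Fin M
  have hR : ∀ x : Ix, ∃ R : MvPolynomial (Option (Mon (N + 1) D)) k, R ≠ 0 ∧
      aeval (fun o : Option (Mon (N + 1) D) => o.elim (X (Sum.inl x.2) : MvPolynomial (CPar x.1 D) k)
        (fun μ => coeff μ.1 (genForm x.1 k D))) R = 0 := fun x => exists_relation _ (by
    have h1 := card_mixed x.1 D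
    rw [Fintype.card_option, Fintype.card_sum, Fintype.card_prod, card_off x.1, Fintype.card_fin, card_mon]
    rw [mul_comm] at h
    omega)
  choose R hR0 hR using hR
  let P : Ix → Polynomial (MvPolynomial (Mon (N + 1) D) k) := fun x => optionEquivLeft k _ (R x)
  have hP0 : ∀ x, P x ≠ 0 := fun x => (EmbeddingLike.map_ne_zero_iff).2 (hR0 x)
  refine isGeneric_of_ne_zero (∏ x, (P x).leadingCoeff)
    (Finset.prod_ne_zero_iff.2 fun x _ => Polynomial.leadingCoeff_ne_zero.2 (hP0 x)) fun G hG => ?_
  rw [map_prod, Finset.prod_ne_zero_iff] at hG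
  set cG : Mon (N + 1) D → k := fun μ => coeff μ.1 G.1
  let Q : Ix → Polynomial k := fun x => (P x).map (eval cG)
  have hQ0 : ∀ x, Q x ≠ 0 := fun x h0 => hG x (Finset.mem_univ x) (by
    have := congrArg (fun q => Polynomial.coeff q (P x).natDegree) h0
    simpa [Q] using this)
  have hev : ∀ (x : Ix) (a : k), (Q x).eval a = eval (fun o => Option.elim o a cG) (R x) := fun x a => by
    simp only [Q, P]
    generalize R x = r
    induction r using MvPolynomial.induction_on with
    | C c => simp
    | add p q hp hq => simp only [map_add, Polynomial.map_add, Polynomial.eval_add, hp, hq]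
    | mul_X p o hp =>
      rw [map_mul, map_mul, Polynomial.map_mul, Polynomial.eval_mul, hp]
      rcases o with _ | μ <;> simp
  let cand : ∀ e : Fin M ↪ Fin (N + 1), Set (Off e × Fin M → k) := fun e =>
    Set.pi Set.univ fun p => {a | (Q ⟨e, p⟩).eval a = 0}
  have hfin : ∀ e, (cand e).Finite := fun e => Set.Finite.pi fun p =>
    (Q ⟨e, p⟩).roots.toFinset.finite_toSet.subset fun a ha => by
      rw [Finset.mem_coe, Multiset.mem_toFinset, Polynomial.mem_roots (hQ0 _)]; exact ha
  refine Set.Finite.subset (Set.finite_iUnion (ι := Fin M ↪ Fin (N + 1))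
    (f := fun e => {U : Submodule k (Fin (N + 1) → k) | ∃ A ∈ cand e, InChart e U A}) fun e => ?_) ?_
  · have hsub : ((fun U : Submodule k (Fin (N + 1) → k) => (U : Set (Fin (N + 1) → k))) ''
        {U | ∃ A ∈ cand e, InChart e U A}) ⊆
        (fun A => {x : Fin (N + 1) → k | ∀ c : Off e, x c.1 = ∑ i, A (c, i) * x (e i)}) '' cand e := by
      rintro _ ⟨U, ⟨A, hA, hU⟩, rfl⟩
      exact ⟨A, hA, Set.ext fun x => (hU x).symm⟩
    exact Set.Finite.of_finite_image (((hfin e).image _).subset hsub) fun U _ U' _ h => SetLike.coe_injective h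
  · rintro U ⟨hU, hGU⟩
    obtain ⟨e, A, hA⟩ := exists_inChart U hU
    refine Set.mem_iUnion.2 ⟨e, A, fun p _ => ?_, hA⟩
    obtain ⟨B, hB⟩ := coeff_eq_of_inChart e hA G.2 hGU
    show (Q ⟨e, p⟩).eval (A p) = 0
    rw [hev]
    have := congrArg (eval (Sum.elim A B)) (hR ⟨e, p⟩)
    rw [map_zero] at this
    refine Eq.trans ?_ this
    rw [show (fun o => Option.elim o (A p) cG) = fun o => eval (Sum.elim A B)
      (o.elim (X (Sum.inl p) : MvPolynomial (CPar e D) k) fun μ => coeff μ.1 (genForm e k D)) by
        funext o; rcases o with _ | μ <;> simp [cG, hB]]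
    exact (eval_aeval_comp _ _ _).symm

end Groth.L14.Fano
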