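import Groth.Agent.L14.Fano.HilbBound
import Groth.Prelude.Def_W4c2ratcurvhypCodim
import Mathlib.RingTheory.Ideal.Height
import Mathlib.FieldTheory.AlgebraicClosure
import Mathlib.RingTheory.AlgebraicIndependent.AlgebraicClosure
import Mathlib.RingTheory.Localization.Integer

/-!
Sequences of forms of degrees `1, …, d` cutting out a locus of too large dimension have large codimension.
-/

set_option autoImplicit false
universe u

open MvPolynomial

namespace Groth.L14.Fano

/-- The coefficient slots of a sequence of forms. -/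
abbrev Co (m d : ℕ) : Type := Σ j : Fin d, Mon (m + 1) (j.1 + 1)

variable {m d : ℕ}

/-- The `j`-th form with coefficients `c`. -/
noncomputable def gen {K : Type u} [CommRing K] (c : Co m d → K) (j : Fin d) : MvPolynomial (Fin (m + 1)) K :=
  ∑ μ : Mon (m + 1) (j.1 + 1), monomial μ.1 (c ⟨j, μ⟩)

/-- The ideal of the first `n` forms. -/
noncomputable def upto {K : Type u} [CommRing K] (c : Co m d → K) (n : ℕ) : Ideal (MvPolynomial (Fin (m + 1)) K) :=
  Ideal.span (gen c '' {j | j.1 < n})

theorem map_gen {K L : Type u} [CommRing K] [CommRing L] (f : K →+* L) (c : Co m d → K) (j : Fin d) :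
    MvPolynomial.map f (gen c j) = gen (f ∘ c) j := by
  simp [gen, map_sum, map_monomial]

theorem upto_map {K L : Type u} [CommRing K] [CommRing L] (f : K →+* L) (c : Co m d → K) (n : ℕ) :
    (upto c n).map (MvPolynomial.map f) = upto (f ∘ c) n := by
  rw [upto, upto, Ideal.map_span, Set.image_image]
  simp only [map_gen]

theorem eval_map_linear {k M L σ : Type*} [Field k] [Field M] [Field L] [Algebra k M] [Algebra k L] [Algebra M L]
    [IsScalarTower k M L] (f : L →ₗ[M] M) (u : σ → k) (p : MvPolynomial σ L) :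
    eval (fun i => algebraMap k M (u i)) (AddMonoidAlgebra.map f.toAddMonoidHom p : MvPolynomial σ M) =
      f (eval (fun i => algebraMap k L (u i)) p) := by
  induction p using MvPolynomial.induction_on' with
  | monomial v a =>
    rw [show (AddMonoidAlgebra.map f.toAddMonoidHom (monomial v a) : MvPolynomial σ M) = monomial v (f a) from
      MvPolynomial.ext _ _ fun w => by
        classical
        rw [coeff_addMonoidAlgebraMap, coeff_monomial, coeff_monomial]
        split_ifs <;> simp, eval_monomial, eval_monomial]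
    simp only [← map_pow, Finsupp.prod, ← map_prod]
    rw [IsScalarTower.algebraMap_apply k M L, mul_comm a, ← Algebra.smul_def, map_smul, smul_eq_mul, mul_comm]
  | add p q hp hq =>
    rw [show (AddMonoidAlgebra.map f.toAddMonoidHom (p + q) : MvPolynomial σ M) =
      AddMonoidAlgebra.map f.toAddMonoidHom p + AddMonoidAlgebra.map f.toAddMonoidHom q from
      MvPolynomial.ext _ _ fun w => by simp [coeff_addMonoidAlgebraMap], map_add, map_add, hp, hq, map_add]

theorem exists_relation_of_free {K : Type u} [Field K] {σ : Type} [Fintype σ] [DecidableEq σ]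
    (P : Ideal (MvPolynomial σ K)) [P.IsPrime] (s : Finset σ) (hs : Free P s)
    (hins : ∀ i, i ∉ s → ¬ Free P (insert i s)) (r : MvPolynomial σ K) :
    ∃ p : Polynomial (MvPolynomial s K), p ≠ 0 ∧
      p.eval₂ (rename (R := K) (Subtype.val : s → σ)).toRingHom r ∈ P := by
  classical
  let y : s → MvPolynomial σ K ⧸ P := fun i => Ideal.Quotient.mk P (X i.1)
  have hy : AlgebraicIndependent K y := (free_iff_algebraicIndependent P s).1 hs
  have halg : Algebra.IsAlgebraic (Algebra.adjoin K (Set.range y)) (MvPolynomial σ K ⧸ P) := by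
    refine isAlgebraic_of_forall P _ fun i => ?_
    by_cases hi : i ∈ s
    · exact isAlgebraic_algebraMap (R := Algebra.adjoin K (Set.range y))
        ⟨_, Algebra.subset_adjoin ⟨⟨i, hi⟩, rfl⟩⟩
    · by_contra htr
      have hin : AlgebraicIndepOn K (fun i => Ideal.Quotient.mk P (X i)) (insert i (s : Set σ)) :=
        (AlgebraicIndepOn.insert_iff (by simpa using hi)).2 ⟨hy, by rw [Set.image_eq_range]; exact htr⟩
      refine hins i hi ((free_iff_algebraicIndependent P _).2 ?_)
      rw [← Finset.coe_insert] at hin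
      exact hin
  obtain ⟨p, hp0, hp⟩ := halg.isAlgebraic (Ideal.Quotient.mk P r)
  refine ⟨p.map (hy.aevalEquiv.symm : _ →+* MvPolynomial s K),
    (Polynomial.map_ne_zero_iff hy.aevalEquiv.symm.injective).2 hp0, ?_⟩
  have hmk : ∀ h : MvPolynomial s K, Ideal.Quotient.mk P (rename (Subtype.val : s → σ) h) = aeval y h := by
    intro h
    induction h using MvPolynomial.induction_on with
    | C a => simp; rfl
    | add a b ha hb => simp only [map_add, ha, hb]
    | mul_X a i ha => simp only [map_mul, ha, rename_X, aeval_X]; rfl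
  rw [← Ideal.Quotient.eq_zero_iff_mem, Polynomial.hom_eval₂, Polynomial.eval₂_map]
  rw [Polynomial.aeval_def] at hp
  rw [← hp]
  congr 1
  refine RingHom.ext fun a => ?_
  show Ideal.Quotient.mk P (rename _ (hy.aevalEquiv.symm a)) = _
  rw [hmk, ← hy.algebraMap_aevalEquiv, AlgEquiv.apply_symm_apply]

variable {k : Type u} [Field k] [Infinite k]

theorem algebraic_coeffs {L : Type u} [Field L] [Algebra k L] (c : Co m d → L) (n : Fin d)
    (s : Finset (Fin (m + 1))) (hs : Free (upto c (n.1 + 1)) s)
    (hno : ∀ t : Finset (Fin (m + 1)), t.card = s.card + 1 → ¬ Free (upto c n.1) t) :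
    ∃ emb : Mon s.card (n.1 + 1) → Co m d, Function.Injective emb ∧
      ∀ i, IsAlgebraic (IntermediateField.adjoin k (c '' {i | i ∉ Set.range emb})) (c i) := by
  classical
  let ε : Fin s.card ≃ s := s.equivFin.symm
  have hε : Function.Injective (fun i => (ε i).1) := Subtype.val_injective.comp ε.injective
  let emb : Mon s.card (n.1 + 1) → Co m d := fun μ =>
    ⟨n, ⟨μ.1.mapDomain (fun i => (ε i).1), (Finsupp.degree_mapDomain _ _).trans μ.2⟩⟩
  have hemb : Function.Injective emb := fun μ ν h => by
    have h' := sigma_mk_injective h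
    exact Subtype.ext (Finsupp.mapDomain_injective hε (congrArg Subtype.val h'))
  refine ⟨emb, hemb, ?_⟩
  let S0 : Set (Co m d) := {i | i ∉ Set.range emb}
  let K1 := IntermediateField.adjoin k (c '' S0)
  have hmem : ∀ i ∈ S0, c i ∈ K1 := fun i hi => IntermediateField.subset_adjoin k _ ⟨i, hi, rfl⟩
  let c1 : Co m d → K1 := fun i => if h : i ∈ S0 then ⟨c i, hmem i h⟩ else 0
  have hc1 : ∀ i ∈ S0, algebraMap K1 L (c1 i) = c i := fun i hi => by simp only [c1, dif_pos hi]; rfl
  -- the first forms are defined over the subfield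
  have hlow : (upto c1 n.1).map (MvPolynomial.map (algebraMap K1 L)) = upto c n.1 := by
    rw [upto_map]
    unfold upto
    congr 1
    refine Set.image_congr fun j hj => ?_
    refine Finset.sum_congr rfl fun μ _ => congrArg _ (hc1 ⟨j, μ⟩ ?_)
    rintro ⟨ν, hν⟩
    exact absurd (congrArg (fun x : Co m d => x.1.1) hν) (ne_of_gt hj)
  obtain ⟨Q, hQ, hJQ, hQs⟩ := hs.exists_prime
  let P1 := Q.comap (MvPolynomial.map (algebraMap K1 L))
  haveI : P1.IsPrime := Ideal.IsPrime.comap _
  have hP1s : Free P1 s := fun h hh => by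
    have : rename (Subtype.val : s → Fin (m + 1)) (MvPolynomial.map (algebraMap K1 L) h) ∈ Q := by
      rw [← map_rename]; exact hh
    exact map_injective _ (algebraMap K1 L).injective ((hQs _ this).trans (map_zero _).symm)
  have hJP1 : upto c1 n.1 ≤ P1 := by
    rw [← Ideal.map_le_iff_le_comap, hlow]
    exact le_trans (Ideal.span_mono (Set.image_mono fun j (hj : j.1 < n.1) => Nat.lt_succ_of_lt hj)) hJQ
  have hins : ∀ i, i ∉ s → ¬ Free P1 (insert i s) := fun i hi hfree =>
    hno _ (Finset.card_insert_of_notMem hi) (hlow ▸ (hfree.anti hJP1).map)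
  -- the remaining part of the form is algebraic over those variables
  let Ts : Finset (Mon (m + 1) (n.1 + 1)) := Finset.univ.filter fun μ => (⟨n, μ⟩ : Co m d) ∈ S0
  let r1 : MvPolynomial (Fin (m + 1)) K1 := ∑ μ ∈ Ts, monomial μ.1 (c1 ⟨n, μ⟩)
  let gs : MvPolynomial s L := ∑ μ : Mon s.card (n.1 + 1), monomial (μ.1.mapDomain ε) (c (emb μ))
  have hsplit : gen c n = rename (Subtype.val : s → Fin (m + 1)) gs + MvPolynomial.map (algebraMap K1 L) r1 := by
    rw [gen, ← Finset.sum_compl_add_sum Ts]
    congr 1
    · rw [map_sum]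
      simp only [rename_monomial, ← Finsupp.mapDomain_comp]
      let em : Mon s.card (n.1 + 1) ↪ Mon (m + 1) (n.1 + 1) := ⟨fun μ => (⟨μ.1.mapDomain (fun i => (ε i).1),
        (Finsupp.degree_mapDomain _ _).trans μ.2⟩ : Mon (m + 1) (n.1 + 1)), fun μ ν h => hemb (congrArg (fun x => (⟨n, x⟩ : Co m d)) h)⟩
      rw [show Tsᶜ = Finset.univ.map em from by
        ext μ
        simp only [Ts, S0, Finset.mem_compl, Finset.mem_filter, Finset.mem_univ, true_and, Set.mem_setOf_eq,
          not_not, Set.mem_range, Finset.mem_map]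
        constructor
        · rintro ⟨ν, hν⟩; exact ⟨ν, sigma_mk_injective (β := fun j : Fin d => Mon (m + 1) (j.1 + 1)) (i := n) hν⟩
        · rintro ⟨ν, hν⟩; exact ⟨ν, by rw [← hν]; rfl⟩, Finset.sum_map]
      rfl
    · simp only [r1, map_sum, map_monomial]
      exact Finset.sum_congr rfl fun μ hμ => by rw [hc1 _ (Finset.mem_filter.1 hμ).2]
  obtain ⟨p', hp'0, hP1mem⟩ := exists_relation_of_free P1 s hP1s hins r1
  have hQmem : rename (Subtype.val : s → Fin (m + 1)) (p'.eval₂ (MvPolynomial.map (algebraMap K1 L)) (-gs)) ∈ Q := by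
    have h1 : MvPolynomial.map (algebraMap K1 L) _ ∈ Q := hP1mem
    rw [← Ideal.Quotient.eq_zero_iff_mem, Polynomial.hom_eval₂] at h1
    rw [← Ideal.Quotient.eq_zero_iff_mem, ← AlgHom.coe_toRingHom, Polynomial.hom_eval₂, Polynomial.hom_eval₂]
    rw [Polynomial.hom_eval₂] at h1
    convert h1 using 2
    · refine RingHom.ext fun a => ?_
      simp [map_rename]
    · rw [AlgHom.coe_toRingHom, map_neg, Ideal.Quotient.mk_eq_mk_iff_sub_mem]
      rw [show -rename (Subtype.val : s → Fin (m + 1)) gs - MvPolynomial.map (algebraMap K1 L) r1 = -gen c n by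
        rw [hsplit]; ring]
      exact Q.neg_mem (hJQ (Ideal.subset_span ⟨n, Nat.lt_succ_self _, rfl⟩))
  have hrel := hQs _ hQmem
  -- specialise the variables in the ground field
  let M := algebraicClosure K1 L
  let lead := p'.leadingCoeff
  have hlead : lead ≠ 0 := Polynomial.leadingCoeff_ne_zero.2 hp'0
  have hpt : ∀ u : s → k, eval (fun i => algebraMap k K1 (u i)) lead ≠ 0 →
      eval (fun i => algebraMap k L (u i)) gs ∈ M := by
    intro u hu
    rw [← neg_neg (eval _ gs)]
    refine neg_mem (mem_algebraicClosure_iff.2 ⟨p'.map (eval fun i => algebraMap k K1 (u i)), fun h0 => hu ?_, ?_⟩)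
    · have := congrArg (fun q => Polynomial.coeff q p'.natDegree) h0
      simpa using this
    · have h2 := congrArg (eval (fun i => algebraMap k L (u i))) hrel
      rw [map_zero, Polynomial.hom_eval₂] at h2
      rw [Polynomial.aeval_def, Polynomial.eval₂_map]
      rw [map_neg] at h2
      rw [← h2]
      congr 1
      refine RingHom.ext fun a => ?_
      induction a using MvPolynomial.induction_on with
      | C x => simp
      | add a b ha hb => simp only [map_add, ha, hb]
      | mul_X a i ha =>
        simp only [map_mul, ha]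
        congr 1
        simp [← IsScalarTower.algebraMap_apply]
  haveI : IsScalarTower k M L := IsScalarTower.of_algebraMap_eq fun x => rfl
  haveI : IsScalarTower k K1 M := IsScalarTower.of_algebraMap_eq fun x => rfl
  have hcoef : ∀ μ, coeff μ gs ∈ M := by
    intro μ
    by_contra hμ
    obtain ⟨f, hf, hfM⟩ := Submodule.exists_dual_map_eq_bot_of_notMem
      (p := Submodule.span M {(1 : L)}) (x := coeff μ gs) (fun hh => hμ (by
        obtain ⟨a, ha⟩ := Submodule.mem_span_singleton.1 hh
        rw [← ha, Algebra.smul_def, mul_one]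
        exact a.2)) inferInstance
    have hfz : ∀ x ∈ M, f x = 0 := fun x hx => by
      have h1 : f x ∈ (Submodule.span M {(1 : L)}).map f := Submodule.mem_map_of_mem
        (Submodule.mem_span_singleton.2 ⟨⟨x, hx⟩, by rw [Algebra.smul_def, mul_one]; rfl⟩)
      rwa [hfM, Submodule.mem_bot] at h1
    have hz : (AddMonoidAlgebra.map f.toAddMonoidHom gs : MvPolynomial s M) *
        MvPolynomial.map (algebraMap K1 M) lead = 0 := by
      refine MvPolynomial.funext_set (fun _ => Set.range (algebraMap k M))
        (fun _ => Set.infinite_range_of_injective (algebraMap k M).injective) fun x hx => ?_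
      choose u hu using fun i => hx i (Set.mem_univ i)
      obtain rfl : (fun i => algebraMap k M (u i)) = x := funext hu
      rw [map_zero, map_mul, eval_map_linear, eval_map]
      by_cases hl : eval (fun i => algebraMap k K1 (u i)) lead = 0
      · have : eval₂ (algebraMap K1 M) (fun i => algebraMap k M (u i)) lead =
            algebraMap K1 M (eval (fun i => algebraMap k K1 (u i)) lead) := by
          induction lead using MvPolynomial.induction_on with
          | C x => simp
          | add a b ha hb => simp only [eval₂_add, map_add, ha, hb]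
          | mul_X a i ha => simp [ha, ← IsScalarTower.algebraMap_apply]
        rw [this, hl, map_zero, mul_zero]
      · rw [hfz _ (hpt u hl), zero_mul]
    rcases mul_eq_zero.1 hz with h0 | h0
    · have := congrArg (coeff μ) h0
      rw [coeff_addMonoidAlgebraMap, coeff_zero] at this
      exact hf this
    · exact hlead (map_injective _ (algebraMap K1 M).injective (h0.trans (map_zero _).symm))
  intro i
  by_cases hi : i ∈ S0
  · rw [← hc1 i hi]; exact isAlgebraic_algebraMap _
  · obtain ⟨μ, rfl⟩ := not_not.1 hi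
    have : coeff (μ.1.mapDomain ε) gs = c (emb μ) := by
      simp only [gs, coeff_sum, coeff_monomial]
      rw [Finset.sum_eq_single μ]
      · rw [if_pos rfl]
      · intro ν _ hν
        rw [if_neg fun h => hν (Subtype.ext (Finsupp.mapDomain_injective ε.injective h))]
      · intro hh; exact absurd (Finset.mem_univ μ) hh
    exact mem_algebraicClosure_iff.1 (this ▸ hcoef _)

/-- A field of fractions of algebraic generators has small transcendence degree. -/
theorem dim_le_of_algebraic {A L : Type u} [CommRing A] [IsDomain A] [Field L] [Algebra k A] [Algebra k L]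
    [Algebra A L] [IsScalarTower k A L] [IsFractionRing A L] [Algebra.FiniteType k A] {ι : Type} [Fintype ι]
    (a : ι → A) (hgen : Algebra.adjoin k (Set.range a) = ⊤) (T : Finset ι)
    (h : ∀ i, IsAlgebraic (IntermediateField.adjoin k ((fun i => algebraMap A L (a i)) '' (T : Set ι)))
      (algebraMap A L (a i))) :
    ringKrullDim A ≤ (T.card : WithBot ℕ∞) := by
  classical
  set T' : Set L := (fun i => algebraMap A L (a i)) '' (T : Set ι) with hT'
  let K1 := IntermediateField.adjoin k T'
  have halg : Algebra.IsAlgebraic (Algebra.adjoin k T') L := by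
    rw [← IntermediateField.isAlgebraic_adjoin_iff_top]
    refine ⟨fun x => mem_algebraicClosure_iff.1 ?_⟩
    have hA : ∀ z : A, algebraMap A L z ∈ algebraicClosure K1 L := by
      intro z
      have hz : z ∈ Algebra.adjoin k (Set.range a) := hgen ▸ Algebra.mem_top
      induction hz using Algebra.adjoin_induction with
      | mem x hx => obtain ⟨i, rfl⟩ := hx; exact mem_algebraicClosure_iff.2 (h i)
      | algebraMap r =>
        rw [← IsScalarTower.algebraMap_apply k A L, IsScalarTower.algebraMap_apply k K1 L]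
        exact (algebraicClosure K1 L).algebraMap_mem _
      | add x y _ _ hx hy => rw [map_add]; exact add_mem hx hy
      | mul x y _ _ hx hy => rw [map_mul]; exact mul_mem hx hy
    obtain ⟨p, q, -, rfl⟩ := IsFractionRing.div_surjective (A := A) x
    exact div_mem (hA p) (hA q)
  obtain ⟨d', -, -, -, hd', -⟩ := L22.AffineDim.exists_normalization k A
  have htr := L22.AffineDim.trdeg_fractionRing k A L hd'
  haveI : FaithfulSMul k L := (faithfulSMul_iff_algebraMap_injective k L).2 (algebraMap k L).injective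
  obtain ⟨t, ht, htb⟩ := exists_isTranscendenceBasis_subset (R := k) (A := L) T'
  have htfin : t.Finite := (T.finite_toSet.image _).subset ht
  haveI := htfin.fintype
  have hc := htb.cardinalMk_eq_trdeg
  rw [htr, Cardinal.mk_fintype] at hc
  have hc' : Fintype.card t = d' := by exact_mod_cast hc
  have hle : Fintype.card t ≤ T.card := by
    rw [← Set.toFinset_card]
    refine le_trans (Finset.card_le_card (t := T.image fun i => algebraMap A L (a i)) fun x hx => ?_)
      Finset.card_image_le
    have := ht (Set.mem_toFinset.1 hx)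
    rw [hT'] at this
    simpa using this
  rw [hd']
  exact_mod_cast hc' ▸ hle

theorem prod_notMem {R : Type u} [CommRing R] {P : Ideal R} (hP : P.IsPrime) {ι : Type} (t : Finset ι)
    (f : ι → R) (h : ∀ i ∈ t, f i ∉ P) : ∏ i ∈ t, f i ∉ P := by
  classical
  induction t using Finset.induction_on with
  | empty => rw [Finset.prod_empty]; exact fun h1 => hP.ne_top ((Ideal.eq_top_iff_one P).2 h1)
  | insert i t hi ih =>
    rw [Finset.prod_insert hi]
    exact fun h1 => (hP.mem_or_mem h1).elim (h i (Finset.mem_insert_self i t))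
      (ih fun j hj => h j (Finset.mem_insert_of_mem hj))

/-- A minimal prime of an ideal that is the vanishing ideal of a set has an element outside it that is detected by
the other components. -/
theorem exists_separator {R : Type u} [CommRing R] [IsNoetherianRing R] (J : Ideal R) (hJ : J.IsRadical)
    {P : Ideal R} (hP : P ∈ J.minimalPrimes) : ∃ u ∉ P, ∀ p ∈ P, p * u ∈ J := by
  classical
  have hfin := J.finite_minimalPrimes_of_isNoetherianRing R
  let t := hfin.toFinset.erase P
  have hex : ¬ t.inf id ≤ P := fun hle => by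
    obtain ⟨Q, hQ, hQP⟩ := (hP.1.1.inf_le').1 hle
    have hQ' := Finset.mem_erase.1 hQ
    have hQm := hfin.mem_toFinset.1 hQ'.2
    exact hQ'.1 (le_antisymm hQP (hP.2 hQm.1 hQP))
  obtain ⟨u, hu, huP⟩ := SetLike.not_le_iff_exists.1 hex
  refine ⟨u, huP, fun p hp => ?_⟩
  rw [← hJ.radical, ← Ideal.sInf_minimalPrimes, Ideal.mem_sInf]
  intro Q hQ
  by_cases hQP : Q = P
  · subst hQP; exact Q.mul_mem_right _ hp
  · exact Q.mul_mem_left _ ((Finset.inf_le (f := id) (Finset.mem_erase.2 ⟨hQP, hfin.mem_toFinset.2 hQ⟩) : t.inf id ≤ Q) hu)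

section Spread

variable {R L : Type u} [CommRing R] [Field L] (f : R →+* L)
  (hf : ∀ x : L, ∃ t r, f t ≠ 0 ∧ f t * x = f r)

include hf in
theorem exists_lift {σ : Type} (Z : MvPolynomial σ L) :
    ∃ t, f t ≠ 0 ∧ ∃ Z0, MvPolynomial.map f Z0 = C (f t) * Z := by
  induction Z using MvPolynomial.induction_on' with
  | monomial v a =>
    obtain ⟨t, r, ht, hr⟩ := hf a
    exact ⟨t, ht, monomial v r, by rw [map_monomial, C_mul_monomial, hr]⟩
  | add p q hp hq =>
    obtain ⟨t, ht, p0, hp0⟩ := hp
    obtain ⟨t', ht', q0, hq0⟩ := hq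
    exact ⟨t * t', by rw [map_mul]; exact mul_ne_zero ht ht', C t' * p0 + C t * q0, by
      simp only [map_add, map_mul, map_C, hp0, hq0]; ring⟩

include hf in
theorem exists_lift_mem {σ : Type} (I : Ideal (MvPolynomial σ R)) (Z : MvPolynomial σ L)
    (hZ : Z ∈ I.map (MvPolynomial.map f)) :
    ∃ t, f t ≠ 0 ∧ ∃ Z0 ∈ I, MvPolynomial.map f Z0 = C (f t) * Z := by
  induction hZ using Submodule.span_induction with
  | mem x hx => obtain ⟨x0, hx0, rfl⟩ := hx; exact ⟨1, by simp, x0, hx0, by simp⟩
  | zero => exact ⟨1, by simp, 0, I.zero_mem, by simp⟩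
  | add x y _ _ hx hy =>
    obtain ⟨t, ht, x0, hx0, hx⟩ := hx
    obtain ⟨t', ht', y0, hy0, hy⟩ := hy
    exact ⟨t * t', by rw [map_mul]; exact mul_ne_zero ht ht', C t' * x0 + C t * y0,
      I.add_mem (I.mul_mem_left _ hx0) (I.mul_mem_left _ hy0), by simp only [map_add, map_mul, map_C, hx, hy]; ring⟩
  | smul b x _ hx =>
    obtain ⟨t, ht, x0, hx0, hx⟩ := hx
    obtain ⟨t', ht', b0, hb⟩ := exists_lift f hf b
    exact ⟨t * t', by rw [map_mul]; exact mul_ne_zero ht ht', b0 * x0, I.mul_mem_left _ hx0, by
      simp only [map_mul, smul_eq_mul, hx, hb]; ring⟩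

end Spread

/-- The vanishing ideal of the bad coefficient vectors. -/
noncomputable def badIdeal (k : Type u) [Field k] (m d : ℕ) : Ideal (MvPolynomial (Co m d) k) where
  carrier := {r | ∀ c : Co m d → k, ((m + 2 - d : ℕ) : WithBot ℕ∞) ≤
    ringKrullDim (MvPolynomial (Fin (m + 1)) k ⧸ upto c d) → eval c r = 0}
  zero_mem' := fun _ _ => map_zero _
  add_mem' {a b} ha hb c hc := by rw [map_add, ha c hc, hb c hc, add_zero]
  smul_mem' r a ha c hc := by rw [smul_eq_mul, map_mul, ha c hc, mul_zero]

theorem badIdeal_isRadical : (badIdeal k m d).IsRadical := fun r ⟨n, hn⟩ c hc => by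
  have := hn c hc
  rw [map_pow] at this
  exact eq_zero_of_pow_eq_zero this

theorem exists_free_generic {L : Type u} [Field L] {P : Ideal (MvPolynomial (Co m d) k)}
    (hP : P ∈ (badIdeal k m d).minimalPrimes) (f : MvPolynomial (Co m d) k →+* L)
    (hf : ∀ x : L, ∃ t r, f t ≠ 0 ∧ f t * x = f r) (hker : ∀ r, f r = 0 ↔ r ∈ P) :
    ∃ s : Finset (Fin (m + 1)), s.card = m + 2 - d ∧ Free (upto (f ∘ X) d) s := by
  classical
  by_contra hc
  push Not at hc
  let S := (Finset.univ : Finset (Finset (Fin (m + 1)))).filter fun s => s.card = m + 2 - d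
  have key : ∀ s ∈ S, ∃ w ∉ P, ∀ c : Co m d → k, (∀ p ∈ P, eval c p = 0) → eval c w ≠ 0 →
      ¬ Free (upto c d) s := by
    intro s hs
    have hnf := hc s (Finset.mem_filter.1 hs).2
    simp only [Free, not_forall] at hnf
    obtain ⟨h, hh, hh0⟩ := hnf
    rw [← upto_map] at hh
    obtain ⟨t2, ht2, Z0, hZ0, hZ⟩ := exists_lift_mem f hf _ _ hh
    obtain ⟨t1, ht1, h0, hh1⟩ := exists_lift f hf h
    obtain ⟨v, hv⟩ := MvPolynomial.ne_zero_iff.1 hh0
    have hv0 : f (coeff v h0) ≠ 0 := by
      have := congrArg (coeff v) hh1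
      rw [coeff_map, coeff_C_mul] at this
      rw [this]; exact mul_ne_zero ht1 hv
    refine ⟨t2 * coeff v h0, fun hw => by
      have := (hker _).2 hw
      rw [map_mul] at this
      exact mul_ne_zero ht2 hv0 this, fun c hcP hw hfree => ?_⟩
    let D0 := C t2 * rename (Subtype.val : s → Fin (m + 1)) h0 - C t1 * Z0
    have hD : MvPolynomial.map f D0 = 0 := by
      simp only [D0, map_sub, map_mul, map_C, map_rename, hh1, hZ, rename_C]
      ring
    have hD' : MvPolynomial.map (eval c) D0 = 0 := MvPolynomial.ext _ _ fun w => by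
      have := congrArg (coeff w) hD
      rw [coeff_map, coeff_zero] at this
      rw [coeff_map, coeff_zero, hcP _ ((hker _).1 this)]
    have hmem : rename (Subtype.val : s → Fin (m + 1)) (C (eval c t2) * MvPolynomial.map (eval c) h0) ∈ upto c d := by
      rw [map_sub, sub_eq_zero, map_mul, map_mul, map_C, map_C, map_rename] at hD'
      rw [map_mul, rename_C, hD']
      refine Ideal.mul_mem_left _ _ ?_
      have := Ideal.mem_map_of_mem (MvPolynomial.map (eval c)) hZ0
      rw [upto_map] at this
      rwa [show (eval c : MvPolynomial (Co m d) k → k) ∘ X = c from funext fun i => eval_X i] at this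
    have := congrArg (coeff v) (hfree _ hmem)
    rw [coeff_C_mul, coeff_map, coeff_zero] at this
    exact hw (by rw [map_mul]; exact this)
  choose w hwP hw using key
  obtain ⟨u, huP, hu⟩ := exists_separator _ (badIdeal_isRadical (k := k) (m := m) (d := d)) hP
  have hnot : u * ∏ s ∈ S.attach, w s.1 s.2 ∉ P := fun h =>
    (hP.1.1.mem_or_mem h).elim huP (prod_notMem hP.1.1 _ _ fun s _ => hwP s.1 s.2)
  refine hnot (hP.1.2 fun c hbad => ?_)
  rw [map_mul]
  by_contra hne
  obtain ⟨hu0, hprod⟩ := mul_ne_zero_iff.1 hne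
  have hPc : ∀ p ∈ P, eval c p = 0 := fun p hp => by
    have := hu p hp c hbad
    rw [map_mul] at this
    exact (mul_eq_zero.1 this).resolve_right hu0
  obtain ⟨s, hs, hsf⟩ := exists_free_of_le_ringKrullDim _ hbad
  rw [map_prod, Finset.prod_ne_zero_iff] at hprod
  have hsS : s ∈ S := Finset.mem_filter.2 ⟨Finset.mem_univ _, hs⟩
  exact hw s hsS c hPc (hprod ⟨s, hsS⟩ (Finset.mem_attach _ _)) hsf

theorem height_badIdeal (hd : 1 ≤ d) (hdm : d + 2 ≤ m) : ((m + 1 : ℕ) : ℕ∞) ≤ (badIdeal k m d).height := by
  classical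
  rw [Ideal.height_eq_inf_minimalPrimes]
  refine le_iInf₂ fun P hP => ?_
  haveI := hP.1.1
  let A := MvPolynomial (Co m d) k ⧸ P
  let L := FractionRing A
  let f : MvPolynomial (Co m d) k →+* L := (algebraMap A L).comp (Ideal.Quotient.mk P)
  have hker : ∀ r, f r = 0 ↔ r ∈ P := fun r => by
    rw [RingHom.comp_apply, map_eq_zero_iff _ (IsFractionRing.injective A L), Ideal.Quotient.eq_zero_iff_mem]
  have hf : ∀ x : L, ∃ t r, f t ≠ 0 ∧ f t * x = f r := fun x => by
    obtain ⟨p, q, hq, rfl⟩ := IsFractionRing.div_surjective (A := A) x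
    obtain ⟨r, rfl⟩ := Ideal.Quotient.mk_surjective p
    obtain ⟨t, rfl⟩ := Ideal.Quotient.mk_surjective q
    have hne : f t ≠ 0 := (map_ne_zero_iff _ (IsFractionRing.injective A L)).2 (nonZeroDivisors.ne_zero hq)
    exact ⟨t, r, hne, mul_div_cancel₀ _ hne⟩
  let c : Co m d → L := f ∘ X
  let Pn : ℕ → Prop := fun n => ∃ s : Finset (Fin (m + 1)), s.card = m + 2 - n ∧ Free (upto c n) s
  have hPd : Pn d := exists_free_generic hP f hf hker
  have hex : ∃ n, Pn n := ⟨d, hPd⟩
  have hP0 : ¬ Pn 0 := by
    rintro ⟨s, hs, -⟩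
    have := Finset.card_le_univ s
    rw [Fintype.card_fin] at this
    omega
  obtain ⟨n, hn⟩ : ∃ n, Nat.find hex = n + 1 :=
    Nat.exists_eq_succ_of_ne_zero fun h => hP0 (h ▸ Nat.find_spec hex)
  have hnd : n < d := by have := Nat.find_le (h := hex) hPd; omega
  obtain ⟨s, hs, hfree⟩ := hn ▸ Nat.find_spec hex
  have hno : ∀ t : Finset (Fin (m + 1)), t.card = s.card + 1 → ¬ Free (upto c n) t := fun t ht hft =>
    Nat.find_min hex (m := n) (by omega) ⟨t, by omega, hft⟩
  obtain ⟨emb, hemb, halg⟩ := algebraic_coeffs (k := k) c ⟨n, hnd⟩ s hfree hno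
  let T : Finset (Co m d) := (Finset.univ.map ⟨emb, hemb⟩)ᶜ
  have hgen : Algebra.adjoin k (Set.range fun i => Ideal.Quotient.mk P (X i)) = ⊤ := by
    have : (Set.range fun i => Ideal.Quotient.mk P (X i)) = Ideal.Quotient.mkₐ k P '' Set.range X := by
      rw [← Set.range_comp]; rfl
    rw [this, ← AlgHom.map_adjoin, adjoin_range_X, Algebra.map_top]
    exact (AlgHom.range_eq_top _).2 Ideal.Quotient.mk_surjective
  have hdim := dim_le_of_algebraic (k := k) (A := A) (L := L) (fun i => Ideal.Quotient.mk P (X i)) hgen T (by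
    have hT : (T : Set (Co m d)) = {i | i ∉ Set.range emb} := by ext i; simp [T]
    rw [hT]
    exact halg)
  obtain ⟨h, e, N, hh, he, hN, hhe⟩ := L22.AffineDim.dim_formula k (MvPolynomial (Co m d) k) P
  rw [MvPolynomial.ringKrullDim_of_isNoetherianRing, ringKrullDim_eq_zero_of_field, zero_add,
    Nat.card_eq_fintype_card] at hN
  have hN' : Fintype.card (Co m d) = N := by exact_mod_cast hN
  rw [he] at hdim
  have he' : e ≤ T.card := by exact_mod_cast hdim
  have hT : T.card + (m + 1).choose (n + 1) = Fintype.card (Co m d) := by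
    have h1 : (Finset.univ.map ⟨emb, hemb⟩).card = (m + 1).choose (n + 1) := by
      rw [Finset.card_map, Finset.card_univ, card_mon]
      congr 1
      dsimp only
      omega
    rw [Finset.card_compl, ← h1]
    have := Finset.card_le_univ (Finset.univ.map ⟨emb, hemb⟩)
    omega
  have := succ_le_choose (m := m) (j := n + 1) (by omega) (by omega)
  rw [hh]
  exact_mod_cast (show m + 1 ≤ h by omega)

/-- Coefficient vectors of tuples of forms. -/
noncomputable def coord (G : (j : Fin d) → LefPen.Form m k (j.1 + 1)) : Co m d → k :=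
  fun i => coeff i.2.1 (G i.1).1

theorem gen_coord (G : (j : Fin d) → LefPen.Form m k (j.1 + 1)) (j : Fin d) : gen (coord G) j = (G j).1 := by
  classical
  refine MvPolynomial.ext _ _ fun v => ?_
  simp only [gen, coord, coeff_sum, coeff_monomial]
  by_cases hv : Finsupp.degree v = j.1 + 1
  · rw [Finset.sum_eq_single ⟨v, hv⟩]
    · rw [if_pos rfl]
    · intro μ _ hμ; rw [if_neg fun h => hμ (Subtype.ext h)]
    · intro hh; exact absurd (Finset.mem_univ _) hh
  · rw [MvPolynomial.IsHomogeneous.coeff_eq_zero (G j).2 hv]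
    exact Finset.sum_eq_zero fun μ _ => by rw [if_neg fun (h : μ.1 = v) => hv (h ▸ μ.2)]

theorem exists_coord_eq (c : Co m d → k) : ∃ G : (j : Fin d) → LefPen.Form m k (j.1 + 1), coord G = c := by
  classical
  refine ⟨fun j => ⟨gen c j, IsHomogeneous.sum _ _ _ fun μ _ => isHomogeneous_monomial _ μ.2⟩, funext fun ⟨j, μ⟩ => ?_⟩
  show coeff μ.1 (gen c j) = _
  rw [gen, coeff_sum, Finset.sum_eq_single μ]
  · rw [coeff_monomial, if_pos rfl]
  · intro ν _ hν; rw [coeff_monomial, if_neg fun h => hν (Subtype.ext h)]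
  · intro hh; exact absurd (Finset.mem_univ μ) hh

theorem coord_injective : Function.Injective (coord (k := k) (m := m) (d := d)) := fun G H h =>
  funext fun j => Subtype.ext (by rw [← gen_coord G, ← gen_coord H, h])

theorem polyFun_equiv : ∃ e : MvPolynomial (Co m d) k ≃+* ↥(LefPen.polyFunAlg k ((j : Fin d) → LefPen.Form m k (j.1 + 1))),
    ∀ r G, (e r).1 G = eval (coord G) r := by
  classical
  let V := (j : Fin d) → LefPen.Form m k (j.1 + 1)
  let l : Co m d → Module.Dual k V := fun i =>
    ((MvPolynomial.lcoeff k i.2.1).comp (Submodule.subtype _)).comp (LinearMap.proj i.1)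
  let φ : MvPolynomial (Co m d) k →ₐ[k] ↥(LefPen.polyFunAlg k V) :=
    aeval fun i => ⟨(l i : V → k), Algebra.subset_adjoin ⟨l i, rfl⟩⟩
  have hφ : ∀ r G, (φ r).1 G = eval (coord G) r := by
    intro r G
    induction r using MvPolynomial.induction_on with
    | C a => simp [φ]
    | add a b ha hb => simp only [map_add, ← ha, ← hb]; rfl
    | mul_X a i ha =>
      rw [map_mul, map_mul, eval_X, ← ha]
      simp only [φ, aeval_X]
      rfl
  refine ⟨(RingEquiv.ofBijective φ ⟨?_, ?_⟩), hφ⟩
  · refine (injective_iff_map_eq_zero _).2 fun r hr => MvPolynomial.funext fun c => ?_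
    obtain ⟨G, rfl⟩ := exists_coord_eq c
    rw [map_zero, ← hφ, hr]
    rfl
  · intro g
    obtain ⟨g, hg⟩ := g
    induction hg using Algebra.adjoin_induction with
    | mem x hx =>
      obtain ⟨L', rfl⟩ := hx
      let ev : (Co m d → k) → V := fun c j =>
        ⟨gen c j, IsHomogeneous.sum _ _ _ fun μ _ => isHomogeneous_monomial _ μ.2⟩
      refine ⟨∑ i, C (L' (ev (Pi.single i 1))) * X i, Subtype.ext (funext fun G => ?_)⟩
      rw [hφ]
      simp only [map_sum, map_mul, eval_C, eval_X]
      have hev : ∀ c, coord (ev c) = c := fun c => by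
        obtain ⟨G', rfl⟩ := exists_coord_eq c
        congr 1
        exact funext fun j => Subtype.ext (gen_coord G' j)
      have hG : G = ∑ i, coord G i • ev (Pi.single i 1) := coord_injective (funext fun x => by
        have hlin : coord (∑ i, coord G i • ev (Pi.single i 1)) x =
            ∑ i, coord G i * coord (ev (Pi.single i 1)) x := by
          refine Eq.trans (map_sum (l x) (fun i => coord G i • ev (Pi.single i 1)) Finset.univ) ?_
          exact Finset.sum_congr rfl fun i _ => by rw [map_smul]; rfl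
        rw [hlin]
        simp only [hev, Pi.single_apply, mul_ite, mul_one, mul_zero]
        simp)
      conv_rhs => rw [hG]
      simp only [map_sum, map_smul, smul_eq_mul, mul_comm]
    | algebraMap r => exact ⟨C r, by simp [φ]; rfl⟩
    | add x y _ _ hx hy =>
      obtain ⟨a, ha⟩ := hx; obtain ⟨b, hb⟩ := hy
      exact ⟨a + b, by rw [map_add, ha, hb]; rfl⟩
    | mul x y _ _ hx hy =>
      obtain ⟨a, ha⟩ := hx; obtain ⟨b, hb⟩ := hy
      exact ⟨a * b, by rw [map_mul, ha, hb]; rfl⟩

theorem codimGE_badSeq (hd : 1 ≤ d) (hdm : d + 2 ≤ m) : LefPen.CodimGE k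
    {G : (j : Fin d) → LefPen.Form m k (j.1 + 1) | ((m + 2 - d : ℕ) : WithBot ℕ∞) ≤
      ringKrullDim (MvPolynomial (Fin (m + 1)) k ⧸ Ideal.span (Set.range fun j : Fin d => (G j).1))} (m + 1) := by
  classical
  obtain ⟨e, he⟩ := polyFun_equiv (k := k) (m := m) (d := d)
  rw [LefPen.CodimGE, ← RingEquiv.height_comap e]
  have hspan : ∀ G : (j : Fin d) → LefPen.Form m k (j.1 + 1),
      upto (coord G) d = Ideal.span (Set.range fun j : Fin d => (G j).1) := fun G => by
    rw [upto, show {j : Fin d | j.1 < d} = Set.univ from Set.eq_univ_of_forall fun j => j.2, Set.image_univ]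
    congr 1
    exact congrArg Set.range (funext (gen_coord G))
  refine (height_badIdeal (k := k) hd hdm).trans (Ideal.height_mono fun r hr G hG => ?_)
  · rw [he]
    refine hr _ ?_
    rw [hspan]
    exact hG

end Groth.L14.Fano
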