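import Groth.Agent.L22.AffineDim
import Mathlib.RingTheory.Ideal.Maximal
import Mathlib.RingTheory.AlgebraicIndependent.TranscendenceBasis
import Mathlib.RingTheory.Algebraic.Integral
import Mathlib.RingTheory.KrullDimension.Basic
import Mathlib.RingTheory.MvPolynomial.Basic
import Mathlib.LinearAlgebra.Basis.VectorSpace

/-!
Free sets of variables modulo an ideal of a polynomial ring over a field: an elementary handle on dimension.
-/

set_option autoImplicit false
universe u

open MvPolynomial

namespace Groth.L14.Fano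

variable {K : Type u} [Field K] {σ : Type}

/-- No nonzero polynomial in the variables of `s` lies in `J`. -/
def Free (J : Ideal (MvPolynomial σ K)) (s : Finset σ) : Prop :=
  ∀ h : MvPolynomial s K, rename (Subtype.val : s → σ) h ∈ J → h = 0

theorem Free.anti {J J' : Ideal (MvPolynomial σ K)} (hle : J ≤ J') {s : Finset σ} (h : Free J' s) : Free J s :=
  fun p hp => h p (hle hp)

theorem Free.subset [DecidableEq σ] {J : Ideal (MvPolynomial σ K)} {s t : Finset σ} (hts : t ⊆ s) (h : Free J s) :
    Free J t := fun p hp => by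
  refine rename_injective (Set.inclusion hts : t → s) (Set.inclusion_injective hts) ?_
  rw [map_zero]
  refine h _ ?_
  rw [rename_rename]
  exact hp

theorem Free.exists_prime {J : Ideal (MvPolynomial σ K)} {s : Finset σ} (h : Free J s) :
    ∃ Q : Ideal (MvPolynomial σ K), Q.IsPrime ∧ J ≤ Q ∧ Free Q s := by
  let S : Submonoid (MvPolynomial σ K) :=
    (nonZeroDivisors (MvPolynomial s K)).map (rename (R := K) (Subtype.val : s → σ)).toMonoidHom
  obtain ⟨Q, hQ, hle, hdisj⟩ := Ideal.exists_le_prime_disjoint (I := J) S (by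
    rw [Set.disjoint_left]
    rintro x hx ⟨p, hp, rfl⟩
    exact nonZeroDivisors.ne_zero hp (h p hx))
  refine ⟨Q, hQ, hle, fun p hp => ?_⟩
  by_contra hp0
  exact Set.disjoint_left.1 hdisj hp ⟨p, mem_nonZeroDivisors_of_ne_zero hp0, rfl⟩

theorem free_iff_algebraicIndependent (Q : Ideal (MvPolynomial σ K)) (s : Finset σ) :
    Free Q s ↔ AlgebraicIndependent K (fun i : s => Ideal.Quotient.mk Q (X i.1)) := by
  have : ∀ p : MvPolynomial s K, aeval (fun i : s => Ideal.Quotient.mk Q (X i.1)) p =
      Ideal.Quotient.mk Q (rename (Subtype.val : s → σ) p) := by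
    intro p
    induction p using MvPolynomial.induction_on with
    | C a => simp; rfl
    | add x y hx hy => simp only [map_add, hx, hy]
    | mul_X x i hx => simp only [map_mul, hx, aeval_X, rename_X]
  rw [AlgebraicIndependent, injective_iff_map_eq_zero]
  simp only [Free, this, Ideal.Quotient.eq_zero_iff_mem]

variable [Fintype σ]

theorem isAlgebraic_of_forall (Q : Ideal (MvPolynomial σ K)) [Q.IsPrime] (T : Set (MvPolynomial σ K ⧸ Q))
    (h : ∀ i, IsAlgebraic (Algebra.adjoin K T) (Ideal.Quotient.mk Q (X i))) :
    Algebra.IsAlgebraic (Algebra.adjoin K T) (MvPolynomial σ K ⧸ Q) := by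
  refine ⟨fun a => ?_⟩
  obtain ⟨p, rfl⟩ := Ideal.Quotient.mk_surjective a
  induction p using MvPolynomial.induction_on with
  | C c => exact isAlgebraic_algebraMap (R := Algebra.adjoin K T) ⟨_, Subalgebra.algebraMap_mem _ c⟩
  | add x y hx hy => rw [map_add]; exact hx.add hy
  | mul_X x i hx => rw [map_mul]; exact hx.mul (h i)

/-- The dimension bound in terms of free variables. -/
theorem ringKrullDim_le_of_not_free [DecidableEq σ] (Q : Ideal (MvPolynomial σ K)) [Q.IsPrime] {e : ℕ}
    (h : ∀ s : Finset σ, s.card = e + 1 → ¬ Free Q s) :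
    ringKrullDim (MvPolynomial σ K ⧸ Q) ≤ (e : WithBot ℕ∞) := by
  classical
  obtain ⟨d, -, -, -, hd, htr⟩ := L22.AffineDim.exists_normalization K (MvPolynomial σ K ⧸ Q)
  haveI : FaithfulSMul K (MvPolynomial σ K ⧸ Q) :=
    (faithfulSMul_iff_algebraMap_injective K (MvPolynomial σ K ⧸ Q)).2 (RingHom.injective _)
  haveI : Algebra.IsAlgebraic (Algebra.adjoin K (Set.range fun i => Ideal.Quotient.mk Q (X i)))
      (MvPolynomial σ K ⧸ Q) :=
    isAlgebraic_of_forall Q _ fun i =>
      isAlgebraic_algebraMap (R := Algebra.adjoin K (Set.range fun i => Ideal.Quotient.mk Q (X i)))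
        ⟨_, Algebra.subset_adjoin ⟨i, rfl⟩⟩
  obtain ⟨t, ht, htb⟩ := exists_isTranscendenceBasis_subset (R := K) (A := MvPolynomial σ K ⧸ Q)
    (Set.range fun i => Ideal.Quotient.mk Q (X i))
  have htfin : t.Finite := (Set.finite_range _).subset ht
  haveI := htfin.fintype
  have hcard : Fintype.card t = d := by
    have := htb.cardinalMk_eq_trdeg
    rw [htr, Cardinal.mk_fintype] at this
    exact_mod_cast this
  rw [hd]
  by_contra hlt
  have hlt' : e + 1 ≤ d := by
    by_contra h'
    exact hlt (by exact_mod_cast (show d ≤ e by omega))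
  choose g hg using fun x : t => ht x.2
  let s : Finset σ := Finset.univ.image g
  have hginj : Function.Injective g := fun a b hab => Subtype.ext (by rw [← hg a, ← hg b, hab])
  have hs : s.card = d := by rw [Finset.card_image_of_injective _ hginj, Finset.card_univ, hcard]
  obtain ⟨s', hs's, hs'⟩ := Finset.exists_subset_card_eq (s := s) (n := e + 1) (by omega)
  refine h s' hs' ((Free.subset hs's) ?_)
  rw [free_iff_algebraicIndependent]
  let φ : s → t := fun i => (Finset.mem_image.1 i.2).choose
  have hφ : ∀ i, g (φ i) = i.1 := fun i => (Finset.mem_image.1 i.2).choose_spec.2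
  have hφinj : Function.Injective φ := fun a b hab => Subtype.ext (by rw [← hφ a, ← hφ b, hab])
  convert (show AlgebraicIndependent K ((↑) : t → MvPolynomial σ K ⧸ Q) from htb.1).comp φ hφinj using 1
  funext i
  rw [Function.comp_apply, ← hg (φ i), hφ]

theorem exists_free_of_le_ringKrullDim [DecidableEq σ] (J : Ideal (MvPolynomial σ K)) {e : ℕ}
    (h : (e : WithBot ℕ∞) ≤ ringKrullDim (MvPolynomial σ K ⧸ J)) : ∃ s : Finset σ, s.card = e ∧ Free J s := by
  rcases Nat.eq_zero_or_pos e with rfl | he
  · refine ⟨∅, rfl, fun p hp => ?_⟩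
    haveI : IsEmpty ↥(∅ : Finset σ) := ⟨fun x => Finset.notMem_empty _ x.2⟩
    by_contra hp0
    have htop : J = ⊤ := by
      rw [eq_C_of_isEmpty p, rename_C] at hp
      refine Ideal.eq_top_of_isUnit_mem _ hp (IsUnit.map C (isUnit_iff_ne_zero.2 fun hc => hp0 ?_))
      rw [eq_C_of_isEmpty p, hc, map_zero]
    subst htop
    haveI : Subsingleton (MvPolynomial σ K ⧸ (⊤ : Ideal (MvPolynomial σ K))) := Ideal.Quotient.subsingleton_iff.2 rfl
    rw [ringKrullDim_eq_bot_of_subsingleton] at h
    exact absurd h (by simp)
  by_contra hc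
  push Not at hc
  rw [ringKrullDim_quotient] at h
  -- a chain starts at a prime whose quotient is at least as large
  obtain ⟨l, hl⟩ := (Order.le_krullDim_iff (n := e)).1 h
  let Q := (l 0).1.asIdeal
  haveI : Q.IsPrime := (l 0).1.2
  have hJQ : J ≤ Q := (l 0).2
  have hdim : (e : WithBot ℕ∞) ≤ ringKrullDim (MvPolynomial σ K ⧸ Q) := by
    rw [ringKrullDim_quotient]
    let l' : LTSeries (PrimeSpectrum.zeroLocus (Q : Set (MvPolynomial σ K))) :=
      LTSeries.mk l.length (fun i => ⟨(l i).1, fun x hx => (show (l 0).1.asIdeal ≤ (l i).1.asIdeal from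
        l.monotone (Fin.zero_le i)) hx⟩) fun i j hij => l.strictMono hij
    exact (Order.le_krullDim_iff (n := e)).2 ⟨l', hl⟩
  have := ringKrullDim_le_of_not_free Q (e := e - 1) fun s hs hfree =>
    hc s (by omega) (hfree.anti hJQ)
  have h2 := hdim.trans this
  have h3 : e ≤ e - 1 := by exact_mod_cast h2
  omega

/-- A polynomial ideal stays free after extending the field. -/
theorem Free.map {L : Type u} [Field L] [Algebra K L] {J : Ideal (MvPolynomial σ K)} {s : Finset σ}
    (h : Free J s) : Free (J.map (MvPolynomial.map (algebraMap K L))) s := by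
  classical
  intro p hp
  let b := Module.Free.chooseBasis K L
  let π : ∀ i, MvPolynomial σ L → MvPolynomial σ K := fun i R => AddMonoidAlgebra.map (b.coord i).toAddMonoidHom R
  have hπc : ∀ i R m, coeff m (π i R) = b.coord i (coeff m R) := fun i R m => coeff_addMonoidAlgebraMap _ _ _
  have hmem : ∀ i, ∀ Z ∈ J.map (MvPolynomial.map (algebraMap K L)), ∀ a, π i (a * Z) ∈ J := by
    intro i Z hZ
    induction hZ using Submodule.span_induction with
    | mem g hg =>
      obtain ⟨g, hg, rfl⟩ := hg
      intro a
      rw [show π i (a * MvPolynomial.map (algebraMap K L) g) = g * π i a from MvPolynomial.ext _ _ fun m => by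
        rw [mul_comm a, hπc, coeff_mul, coeff_mul, map_sum]
        exact Finset.sum_congr rfl fun q _ => by rw [coeff_map, ← Algebra.smul_def, map_smul, hπc, smul_eq_mul]]
      exact J.mul_mem_right _ hg
    | zero =>
      intro a
      rw [mul_zero, show π i 0 = 0 from MvPolynomial.ext _ _ fun m => by simp [hπc]]
      exact J.zero_mem
    | add x y _ _ hx hy =>
      intro a
      rw [mul_add, show π i (a * x + a * y) = π i (a * x) + π i (a * y) from MvPolynomial.ext _ _ fun m => by simp [hπc]]
      exact J.add_mem (hx a) (hy a)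
    | smul r x _ hx => intro a; rw [smul_eq_mul, ← mul_assoc]; exact hx _
  have key : ∀ i, (AddMonoidAlgebra.map (b.coord i).toAddMonoidHom p : MvPolynomial s K) = 0 := by
    intro i
    refine h _ ?_
    rw [show rename (Subtype.val : s → σ) (AddMonoidAlgebra.map (b.coord i).toAddMonoidHom p) =
      π i (rename (Subtype.val : s → σ) p) from MvPolynomial.ext _ _ fun m => by
        rw [hπc]
        by_cases hm : ∃ u, Finsupp.mapDomain (Subtype.val : s → σ) u = m
        · obtain ⟨u, rfl⟩ := hm
          rw [coeff_rename_mapDomain _ Subtype.val_injective, coeff_rename_mapDomain _ Subtype.val_injective,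
            coeff_addMonoidAlgebraMap]
          rfl
        · push Not at hm
          rw [coeff_rename_eq_zero _ _ _ fun u hu => absurd hu (hm u),
            coeff_rename_eq_zero _ _ _ fun u hu => absurd hu (hm u), map_zero]]
    simpa using hmem i _ hp 1
  refine MvPolynomial.ext _ _ fun m => b.repr.injective (Finsupp.ext fun i => ?_)
  have := congrArg (coeff m) (key i)
  rw [coeff_addMonoidAlgebraMap, coeff_zero] at this
  rw [coeff_zero, map_zero, Finsupp.zero_apply]
  exact this

end Groth.L14.Fano
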