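import Groth.Agent.L14.Fano.FreeVars
import Groth.Agent.L14.Fano.Generic

/-!
Forms of degree `D` in an ideal with many free variables have large codimension.
-/

set_option autoImplicit false
universe u

open MvPolynomial

namespace Groth.L14.Fano

variable {K : Type u} [Field K]

theorem finite_form (N D : ℕ) : Module.Finite K ↥(CohB1.polyGrading N K D) := by
  classical
  let f : (Mon (N + 1) D → K) →ₗ[K] ↥(CohB1.polyGrading N K D) :=
    LinearMap.codRestrict _ (Fintype.linearCombination K fun μ : Mon (N + 1) D => monomial μ.1 (1 : K)) fun c => by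
      rw [Fintype.linearCombination_apply]
      exact Submodule.sum_mem _ fun μ _ => Submodule.smul_mem _ _ (isHomogeneous_monomial _ μ.2)
  refine Module.Finite.of_surjective f fun G => ⟨fun μ => coeff μ.1 G.1, Subtype.ext ?_⟩
  show Fintype.linearCombination K (fun μ : Mon (N + 1) D => monomial μ.1 (1 : K)) _ = G.1
  rw [Fintype.linearCombination_apply]
  refine MvPolynomial.ext _ _ fun m => ?_
  simp only [coeff_sum, coeff_smul, coeff_monomial, smul_eq_mul, mul_ite, mul_one, mul_zero]
  by_cases hm : Finsupp.degree m = D
  · rw [Finset.sum_eq_single ⟨m, hm⟩]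
    · simp
    · intro ν _ hν; rw [if_neg fun h => hν (Subtype.ext h)]
    · intro hh; exact absurd (Finset.mem_univ _) hh
  · rw [(MvPolynomial.IsHomogeneous.coeff_eq_zero G.2 hm)]
    exact Finset.sum_eq_zero fun ν _ => by rw [if_neg fun (h : ν.1 = m) => hm (h ▸ ν.2)]

theorem choose_le_finrank_compl {N D : ℕ} (I : Ideal (MvPolynomial (Fin (N + 1)) K)) (s : Finset (Fin (N + 1)))
    (hs : Free I s) :
    (s.card + D - 1).choose D + Module.finrank K ↥(CohB1.polyGrading N K D ⊓ Submodule.restrictScalars K I) ≤
      Module.finrank K ↥(CohB1.polyGrading N K D) := by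
  classical
  haveI := finite_form (K := K) N D
  let e : Fin s.card ≃ s := s.equivFin.symm
  let v : Mon s.card D → MvPolynomial (Fin (N + 1)) K := fun μ =>
    rename (fun i => (e i).1) (monomial μ.1 (1 : K))
  have hinj : Function.Injective (fun i => (e i).1) := Subtype.val_injective.comp e.injective
  have hli : LinearIndependent K v := by
    have h0 : LinearIndependent K (fun μ : Mon s.card D => (monomial μ.1 (1 : K))) := by
      have := (MvPolynomial.basisMonomials (Fin s.card) K).linearIndependent.comp (fun μ : Mon s.card D => μ.1)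
        Subtype.val_injective
      rwa [MvPolynomial.coe_basisMonomials] at this
    exact h0.map' (rename fun i => (e i).1).toLinearMap (LinearMap.ker_eq_bot.2 (rename_injective _ hinj))
  let W := Submodule.span K (Set.range v)
  have hW : W ≤ CohB1.polyGrading N K D := Submodule.span_le.2 (by
    rintro _ ⟨μ, rfl⟩
    exact (isHomogeneous_monomial _ μ.2).rename_isHomogeneous)
  have hdisj : W ⊓ (CohB1.polyGrading N K D ⊓ Submodule.restrictScalars K I) = ⊥ := by
    rw [Submodule.eq_bot_iff]
    rintro x ⟨hx, -, hxI⟩
    have hall : ∀ y ∈ W, ∃ p : MvPolynomial s K, rename (Subtype.val : s → Fin (N + 1)) p = y := by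
      intro y hy
      induction hy using Submodule.span_induction with
      | mem y hy =>
        obtain ⟨μ, rfl⟩ := hy
        exact ⟨rename e (monomial μ.1 1), by rw [rename_rename]; rfl⟩
      | zero => exact ⟨0, map_zero _⟩
      | add a b _ _ ha hb => obtain ⟨p, rfl⟩ := ha; obtain ⟨q, rfl⟩ := hb; exact ⟨p + q, map_add _ _ _⟩
      | smul c a _ ha => obtain ⟨p, rfl⟩ := ha; exact ⟨c • p, map_smul _ _ _⟩
    obtain ⟨p, rfl⟩ := hall x hx
    rw [hs p hxI, map_zero]
  haveI : FiniteDimensional K W := FiniteDimensional.span_of_finite K (Set.finite_range v)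
  have h1 := Submodule.finrank_sup_add_finrank_inf_eq W (CohB1.polyGrading N K D ⊓ Submodule.restrictScalars K I)
  rw [hdisj, finrank_bot, add_zero, finrank_span_eq_card hli, card_mon] at h1
  rw [← h1]
  exact Submodule.finrank_mono (sup_le hW inf_le_left)

theorem succ_le_choose {m j : ℕ} (hj : 1 ≤ j) (hjm : j ≤ m) : m + 1 ≤ (m + 1).choose j := by
  induction m generalizing j with
  | zero => omega
  | succ m ih =>
    obtain ⟨i, rfl⟩ : ∃ i, j = i + 1 := ⟨j - 1, by omega⟩
    rw [Nat.choose_succ_succ]
    rcases Nat.eq_zero_or_pos i with rfl | hi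
    · rw [Nat.choose_zero_right, Nat.choose_one_right]; omega
    · have := ih hi (by omega)
      have h2 : 1 ≤ (m + 1).choose (i + 1) := Nat.choose_pos (by omega)
      simp only [Nat.succ_eq_add_one]
      omega

end Groth.L14.Fano
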