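import Groth.Agent.L14.Fano.BadSeq
import Mathlib.RingTheory.Ideal.KrullsHeightTheorem
import Mathlib.RingTheory.Ideal.GoingDown
import Mathlib.RingTheory.Flat.FaithfullyFlat.Algebra

/-!
Lines through the points of a general hypersurface: the expected dimension bound.
-/

set_option autoImplicit false
universe u

open MvPolynomial

namespace Groth.L14.Fano

variable {k : Type u} [Field k] [Infinite k]

/-- A good sequence generates an ideal of the expected height. -/
theorem le_height_upto {m d : ℕ} (hdm : d ≤ m + 1) (c : Co m d → k)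
    (h : ¬ ((m + 2 - d : ℕ) : WithBot ℕ∞) ≤ ringKrullDim (MvPolynomial (Fin (m + 1)) k ⧸ upto c d)) :
    (d : ℕ∞) ≤ (upto c d).height := by
  rw [Ideal.height_eq_inf_minimalPrimes]
  refine le_iInf₂ fun P hP => ?_
  haveI := hP.1.1
  obtain ⟨a, e, N, hh, he, hN, hhe⟩ := L22.AffineDim.dim_formula k (MvPolynomial (Fin (m + 1)) k) P
  rw [MvPolynomial.ringKrullDim_of_isNoetherianRing, ringKrullDim_eq_zero_of_field, zero_add,
    Nat.card_eq_fintype_card, Fintype.card_fin] at hN
  have hN' : m + 1 = N := by exact_mod_cast hN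
  have hle : ringKrullDim (MvPolynomial (Fin (m + 1)) k ⧸ P) ≤
      ringKrullDim (MvPolynomial (Fin (m + 1)) k ⧸ upto c d) :=
    ringKrullDim_le_of_surjective (Ideal.Quotient.factor hP.1.2) (Ideal.Quotient.factor_surjective hP.1.2)
  rw [he] at hle
  have : e < m + 2 - d := by
    by_contra hc
    exact h ((show ((m + 2 - d : ℕ) : WithBot ℕ∞) ≤ (e : WithBot ℕ∞) by exact_mod_cast not_lt.1 hc).trans hle)
  rw [hh]
  exact_mod_cast (show d ≤ a by omega)

variable {m d : ℕ} (a : Fin (m + 2))

/-- The monomial slot of a coefficient in the chart. -/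
noncomputable def slot (d : ℕ) : Option (Co m d) → Mon (m + 2) d
  | none => ⟨Finsupp.single a d, Finsupp.degree_single _ _⟩
  | some i => ⟨i.2.1.mapDomain a.succAbove + Finsupp.single a (d - (i.1.1 + 1)), by
      rw [map_add, Finsupp.degree_mapDomain, Finsupp.degree_single, i.2.2]
      have := i.1.2
      omega⟩

theorem slot_none_apply (i : Fin (m + 1)) : (slot a d none).1 (a.succAbove i) = 0 := by
  simp [slot, Finsupp.single_eq_of_ne (Fin.succAbove_ne a i)]

theorem slot_some_apply (x : Co m d) (i : Fin (m + 1)) : (slot a d (some x)).1 (a.succAbove i) = x.2.1 i := by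
  simp [slot, Finsupp.single_eq_of_ne (Fin.succAbove_ne a i),
    Finsupp.mapDomain_apply (Fin.succAbove_right_injective (p := a))]

theorem slot_some_self (x : Co m d) : (slot a d (some x)).1 a = d - (x.1.1 + 1) := by
  have : (x.2.1.mapDomain a.succAbove) a = 0 := Finsupp.mapDomain_notin_range _ _ (by
    rintro ⟨i, hi⟩; exact Fin.succAbove_ne a i hi)
  simp [slot, this]

theorem slot_bijective : Function.Bijective (slot a d) := by
  classical
  constructor
  · rintro (_ | x) (_ | y) h
    · rfl
    · exfalso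
      have h0 : y.2.1 = 0 := Finsupp.ext fun i => by
        rw [← slot_some_apply a y i, ← h, slot_none_apply]; rfl
      have := y.2.2
      rw [h0, map_zero] at this
      omega
    · exfalso
      have h0 : x.2.1 = 0 := Finsupp.ext fun i => by
        rw [← slot_some_apply a x i, h, slot_none_apply]; rfl
      have := x.2.2
      rw [h0, map_zero] at this
      omega
    · have h1 : x.2.1 = y.2.1 := Finsupp.ext fun i => by rw [← slot_some_apply a x i, h, slot_some_apply]
      obtain ⟨j, μ⟩ := x
      obtain ⟨j', ν⟩ := y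
      have : j.1 + 1 = j'.1 + 1 := by rw [← μ.2, ← ν.2]; exact congrArg Finsupp.degree h1
      obtain rfl : j = j' := Fin.ext (by omega)
      rw [show μ = ν from Subtype.ext h1]
  · intro ν
    let r : Fin (m + 1) →₀ ℕ := ν.1.comapDomain a.succAbove Fin.succAbove_right_injective.injOn
    have hdeg : Finsupp.degree r + ν.1 a = d := by
      have := ν.2
      rw [Finsupp.degree_eq_sum, Fin.sum_univ_succAbove _ a] at this
      rw [Finsupp.degree_eq_sum]
      simp only [r, Finsupp.comapDomain_apply]
      omega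
    have hval : ∀ (x : Option (Co m d)), (∀ i, (slot a d x).1 (a.succAbove i) = r i) →
        (slot a d x).1 a = ν.1 a → slot a d x = ν := fun x h1 h2 => Subtype.ext (Finsupp.ext fun c => by
      rcases Fin.eq_self_or_eq_succAbove a c with rfl | ⟨i, rfl⟩
      · exact h2
      · exact (h1 i).trans (Finsupp.comapDomain_apply _ _ _ _))
    rcases Nat.eq_zero_or_pos (Finsupp.degree r) with h0 | h0
    · refine ⟨none, hval none (fun i => ?_) ?_⟩
      · rw [slot_none_apply, (Finsupp.degree_eq_zero_iff r).1 h0]; rfl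
      · simp [slot]; omega
    · refine ⟨some ⟨⟨Finsupp.degree r - 1, by omega⟩, ⟨r, ?_⟩⟩, hval _ (fun i => slot_some_apply a _ i) ?_⟩
      · show Finsupp.degree r = _ + 1
        dsimp only
        omega
      · rw [slot_some_self]
        dsimp only
        omega

/-- The coordinates adapted to a point with `v a = 1`. -/
noncomputable def shear {S : Type u} [CommRing S] (v : Fin (m + 1) → S) : Fin (m + 2) → MvPolynomial (Fin (m + 2)) S :=
  a.insertNth (X a) fun i => X (a.succAbove i) - C (v i) * X a

/-- The coefficients of a form from its chart data. -/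
noncomputable def chartForm {S : Type u} [CommRing S] (v : Fin (m + 1) → S) (T : Option (Co m d) → S) :
    MvPolynomial (Fin (m + 2)) S :=
  ∑ o, C (T o) * ∏ c, shear a v c ^ (slot a d o).1 c

theorem map_chartForm {S S' : Type u} [CommRing S] [CommRing S'] (f : S →+* S') (v : Fin (m + 1) → S)
    (T : Option (Co m d) → S) : MvPolynomial.map f (chartForm a v T) = chartForm a (f ∘ v) (f ∘ T) := by
  simp only [chartForm, map_sum, map_mul, map_prod, map_pow, map_C]
  refine Finset.sum_congr rfl fun o _ => ?_
  congr 1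
  refine Finset.prod_congr rfl fun c _ => ?_
  congr 1
  rcases Fin.eq_self_or_eq_succAbove a c with rfl | ⟨i, rfl⟩ <;> simp [shear]

theorem eval_chartForm {S : Type u} [CommRing S] (v : Fin (m + 1) → S) (T : Option (Co m d) → S)
    (x : Fin (m + 2) → S) :
    eval x (chartForm a v T) = ∑ o, T o * ∏ c, eval x (shear a v c) ^ (slot a d o).1 c := by
  simp only [chartForm, map_sum, map_mul, map_prod, map_pow, eval_C]

/-- Chart data of a form. -/
theorem exists_chartData (G : MvPolynomial (Fin (m + 2)) k) (hG : G.IsHomogeneous d) (v : Fin (m + 2) → k)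
    (hva : v a = 1) (hv : eval v G = 0) :
    ∃ c : Co m d → k, chartForm a (v ∘ a.succAbove) (fun o => o.elim 0 c) = G := by
  classical
  let back : Fin (m + 2) → MvPolynomial (Fin (m + 2)) k :=
    a.insertNth (X a) fun i => X (a.succAbove i) + C (v (a.succAbove i)) * X a
  let H := bind₁ back G
  have hH : H.IsHomogeneous d := by
    have := hG.aeval back (n := 1) fun c => by
      rcases Fin.eq_self_or_eq_succAbove a c with rfl | ⟨i, rfl⟩
      · simp [back, isHomogeneous_X]
      · simpa [back] using (isHomogeneous_X k _).add (isHomogeneous_C_mul_X _ _)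
    simpa [H] using this
  have hnone : coeff (slot a d none).1 H = 0 := by
    have h1 : eval (fun c => if c = a then 1 else 0) H = eval v G := by
      rw [eval_bind]
      congr 2
      funext c
      rcases Fin.eq_self_or_eq_succAbove a c with rfl | ⟨i, rfl⟩
      · simp [back, hva]
      · simp [back, Fin.succAbove_ne]
    rw [hv, eval_eq_sum hH, Finset.sum_eq_single (slot a d none)] at h1
    · rw [Finset.prod_eq_single a] at h1
      · simpa [slot] using h1
      · intro c _ hc; simp [slot, Finsupp.single_eq_of_ne hc]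
      · intro hh; exact absurd (Finset.mem_univ a) hh
    · intro ν _ hν
      obtain ⟨o, rfl⟩ := (slot_bijective a (d := d)).surjective ν
      rcases o with _ | x
      · exact absurd rfl hν
      obtain ⟨i, hi⟩ : ∃ i, x.2.1 i ≠ 0 := by
        by_contra h0
        push Not at h0
        have := x.2.2
        rw [show x.2.1 = 0 from Finsupp.ext h0, map_zero] at this
        omega
      rw [Finset.prod_eq_zero (Finset.mem_univ (a.succAbove i)) (by
        rw [if_neg (Fin.succAbove_ne a i), slot_some_apply, zero_pow hi]), mul_zero]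
    · intro hh; exact absurd (Finset.mem_univ _) hh
  refine ⟨fun x => coeff (slot a d (some x)).1 H, MvPolynomial.funext fun x => ?_⟩
  let z : Fin (m + 2) → k := a.insertNth (x a) fun i => x (a.succAbove i) - v (a.succAbove i) * x a
  have hz : eval x G = eval z H := by
    rw [eval_bind]
    congr 2
    funext c
    rcases Fin.eq_self_or_eq_succAbove a c with rfl | ⟨i, rfl⟩ <;> simp [back, z]
  have hl : ∀ c, eval x (shear a (v ∘ a.succAbove) c) = z c := fun c => by
    rcases Fin.eq_self_or_eq_succAbove a c with rfl | ⟨i, rfl⟩ <;> simp [shear, z]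
  rw [hz, eval_eq_sum hH, ← (Equiv.ofBijective _ (slot_bijective a (d := d))).sum_comp]
  simp only [chartForm, map_sum, map_mul, map_prod, map_pow, eval_C, hl]
  refine Finset.sum_congr rfl fun o _ => ?_
  rcases o with _ | y
  · simp [Equiv.ofBijective_apply, hnone]
  · rfl

/-- The forms of the chart vanish on the projection of the cone. -/
theorem eval_gen_eq_zero (v : Fin (m + 2) → k) (hva : v a = 1) (c : Co m d → k) (w : Fin (m + 2) → k)
    (hw : ∀ s t : k, eval (s • v + t • w) (chartForm a (v ∘ a.succAbove) (fun o => o.elim 0 c)) = 0) (j : Fin d) :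
    eval (fun i => w (a.succAbove i) - v (a.succAbove i) * w a) (gen c j) = 0 := by
  classical
  set y := fun i => w (a.succAbove i) - v (a.succAbove i) * w a
  let e : Fin d → k := fun j => eval y (gen c j)
  let p : Polynomial k := ∑ j : Fin d, Polynomial.C (e j) * Polynomial.X ^ (d - (j.1 + 1))
  have hp : p = 0 := Polynomial.funext fun s => by
    have := hw (s - w a) 1
    rw [Polynomial.eval_zero]
    refine Eq.trans ?_ this
    have hl : ∀ c', eval ((s - w a) • v + (1 : k) • w) (shear a (v ∘ a.succAbove) c') =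
        (a.insertNth s y : Fin (m + 2) → k) c' := fun c' => by
      rcases Fin.eq_self_or_eq_succAbove a c' with rfl | ⟨i, rfl⟩ <;> simp [shear, hva, y] <;> ring
    rw [eval_chartForm, Fintype.sum_option]
    simp only [hl, Option.elim, zero_mul, zero_add]
    simp only [p, Polynomial.eval_finsetSum, Polynomial.eval_mul, Polynomial.eval_C, Polynomial.eval_pow,
      Polynomial.eval_X, e, gen, map_sum, eval_monomial, Finset.sum_mul, Fintype.sum_sigma]
    refine Finset.sum_congr rfl fun j _ => Finset.sum_congr rfl fun μ _ => ?_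
    rw [Fin.prod_univ_succAbove (f := fun c => (a.insertNth s y : Fin (m + 2) → k) c ^ (slot a d (some ⟨j, μ⟩)).1 c) (x := a), Fin.insertNth_apply_same, slot_some_self,
      Finsupp.prod_fintype _ _ fun i => pow_zero _]
    simp only [Fin.insertNth_apply_succAbove, slot_some_apply]
    ring
  have := congrArg (fun q => Polynomial.coeff q (d - (j.1 + 1))) hp
  simp only [p, Polynomial.finsetSum_coeff, Polynomial.coeff_C_mul_X_pow, Polynomial.coeff_zero] at this
  rw [Finset.sum_eq_single j] at this
  · rwa [if_pos rfl] at this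
  · intro i _ hi
    rw [if_neg]
    intro h
    have := i.2
    have := j.2
    exact hi (Fin.ext (by omega))
  · intro hh; exact absurd (Finset.mem_univ j) hh

theorem eval_relation {A : Type u} [CommRing A] [Algebra k A] (evc : A →+* k)
    (hk : ∀ z, evc (algebraMap k A z) = z) (u : Fin (m + 1) → k) (v : Fin (m + 1) → A)
    (hv : ∀ i, evc (v i) = u i) (T : Option (Co m d) → A) (c : Option (Co m d) → k) (hT : ∀ o, evc (T o) = c o)
    (r : MvPolynomial (Mon (m + 2) d) k) (hr : aeval (fun μ : Mon (m + 2) d => coeff μ.1 (chartForm a v T)) r = 0) :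
    eval (fun μ : Mon (m + 2) d => coeff μ.1 (chartForm a u c)) r = 0 := by
  have hq : ∀ μ : Mon (m + 2) d, evc (coeff μ.1 (chartForm a v T)) = coeff μ.1 (chartForm a u c) := fun μ => by
    rw [← coeff_map, map_chartForm, show evc ∘ v = u from funext hv, show evc ∘ T = c from funext hT]
  have key : ∀ r : MvPolynomial (Mon (m + 2) d) k,
      evc (aeval (fun μ : Mon (m + 2) d => coeff μ.1 (chartForm a v T)) r) =
        eval (fun μ : Mon (m + 2) d => coeff μ.1 (chartForm a u c)) r := fun r => by
    induction r using MvPolynomial.induction_on with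
    | C z => rw [aeval_C, eval_C, hk]
    | add r r' hr hr' => simp only [map_add, hr, hr']
    | mul_X r i hr => simp only [map_mul, hr, aeval_X, eval_X, hq]
  rw [← key, hr, map_zero]

theorem evB_algebraMap {A : Type u} [CommRing A] [Algebra k A] {σ : Type} (evc : A →+* k)
    (hk : ∀ z, evc (algebraMap k A z) = z) (u : σ → k) (z : k) :
    eval₂Hom evc u (algebraMap k (MvPolynomial σ A) z) = z := by
  rw [IsScalarTower.algebraMap_apply k A (MvPolynomial σ A), algebraMap_eq, eval₂Hom_C, hk]

/-- Forms whose chart data is a bad sequence satisfy a relation. -/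
theorem exists_relation_bad (hd : 1 ≤ d) (hdm : d + 2 ≤ m) (P : Ideal (MvPolynomial (Co m d) k))
    (hP : P ∈ (badIdeal k m d).minimalPrimes) :
    ∃ R : MvPolynomial (Mon (m + 2) d) k, R ≠ 0 ∧ ∀ (u : Fin (m + 1) → k) (c : Co m d → k),
      (∀ p ∈ P, eval c p = 0) →
      eval (fun μ : Mon (m + 2) d => coeff μ.1 (chartForm a u (fun o => o.elim 0 c))) R = 0 := by
  classical
  haveI := hP.1.1
  let A := MvPolynomial (Co m d) k ⧸ P
  let B := MvPolynomial (Fin (m + 1)) A
  let T : Option (Co m d) → B := fun o => o.elim 0 fun i => C (Ideal.Quotient.mk P (X i))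
  let q : Mon (m + 2) d → B := fun μ => coeff μ.1 (chartForm a (fun i => (X i : B)) T)
  obtain ⟨h, e, N, hh, he, hN, hhe⟩ := L22.AffineDim.dim_formula k (MvPolynomial (Co m d) k) P
  rw [MvPolynomial.ringKrullDim_of_isNoetherianRing, ringKrullDim_eq_zero_of_field, zero_add,
    Nat.card_eq_fintype_card] at hN
  have hN' : Fintype.card (Co m d) = N := by exact_mod_cast hN
  have hbig : m + 1 ≤ h := by
    have h1 : ((m + 1 : ℕ) : ℕ∞) ≤ P.height :=
      (height_badIdeal (k := k) hd hdm).trans (Ideal.height_mono hP.1.2)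
    rw [hh] at h1
    exact_mod_cast h1
  obtain ⟨e', -, -, -, he', htr⟩ := L22.AffineDim.exists_normalization k A
  have hee : e' = e := by
    have := he'.symm.trans he
    exact_mod_cast this
  have hcard : e + (m + 1) < Fintype.card (Mon (m + 2) d) := by
    rw [← Fintype.card_congr (Equiv.ofBijective _ (slot_bijective a (d := d))), Fintype.card_option]
    omega
  by_cases hind : ∃ R : MvPolynomial (Mon (m + 2) d) k, R ≠ 0 ∧ aeval q R = 0
  · obtain ⟨R, hR0, hR⟩ := hind
    refine ⟨R, hR0, fun u c hc => ?_⟩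
    let evc : A →+* k := Ideal.Quotient.lift P (eval c) hc
    refine eval_relation a (eval₂Hom evc u) (evB_algebraMap evc (fun z => ?_) u) u (fun i => (X i : B))
      (fun i => eval₂Hom_X' evc u i) T _ (fun o => ?_) R hR
    · exact (Ideal.Quotient.lift_mk P (eval c) hc).trans (eval_C z)
    · rcases o with _ | i
      · exact map_zero _
      · exact (eval₂Hom_C evc u _).trans ((Ideal.Quotient.lift_mk P (eval c) hc).trans (eval_X i))
  · exfalso
    push Not at hind
    have hai : AlgebraicIndependent k q := (injective_iff_map_eq_zero _).2 fun R hR => by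
      by_contra hne; exact hind R hne hR
    haveI : FaithfulSMul k A :=
      (faithfulSMul_iff_algebraMap_injective k A).2 (algebraMap k A).injective
    have h1 := hai.lift_cardinalMk_le_trdeg
    have htrB : Algebra.trdeg k B = (e + (m + 1) : ℕ) := by
      rw [← trdeg_add_eq k A (A := B), htr, MvPolynomial.trdeg_of_isDomain, Cardinal.mk_fintype, hee, Fintype.card_fin]
      simp
    rw [htrB, Cardinal.mk_fintype] at h1
    simp only [Cardinal.lift_natCast, Nat.cast_le] at h1
    omega

/-- The projection along `v` preserves codimensions. -/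
theorem le_height_of_chart (v : Fin (m + 2) → k) (I : Ideal (MvPolynomial (Fin (m + 1)) k))
    (J : Ideal (MvPolynomial (Fin (m + 2)) k))
    (h : I.map (aeval fun i => (X (a.succAbove i) - C (v (a.succAbove i)) * X a : MvPolynomial (Fin (m + 2)) k)) ≤ J) :
    I.height ≤ J.height := by
  classical
  let S := MvPolynomial (Fin (m + 1)) k
  let ψ : S →ₐ[k] MvPolynomial (Fin (m + 2)) k := aeval fun i => X (a.succAbove i) - C (v (a.succAbove i)) * X a
  let fwd : Polynomial S →+* MvPolynomial (Fin (m + 2)) k := Polynomial.eval₂RingHom ψ.toRingHom (X a)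
  let bwd : MvPolynomial (Fin (m + 2)) k →+* Polynomial S :=
    eval₂Hom (Polynomial.C.comp C)
      (a.insertNth Polynomial.X fun i => Polynomial.C (X i) + Polynomial.C (C (v (a.succAbove i))) * Polynomial.X)
  have hψC : ∀ r, ψ.toRingHom (C r) = C r := fun r => ψ.commutes r
  have hψX : ∀ i, ψ.toRingHom (X i) = X (a.succAbove i) - C (v (a.succAbove i)) * X a := fun i => aeval_X _ i
  have h1 : fwd.comp bwd = RingHom.id _ := by
    refine ringHom_ext (fun r => by simp [fwd, bwd, hψC, hψX, -AlgHom.toRingHom_eq_coe]) fun c => ?_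
    rcases Fin.eq_self_or_eq_succAbove a c with rfl | ⟨i, rfl⟩ <;> simp [fwd, bwd, hψC, hψX, -AlgHom.toRingHom_eq_coe]
  have h2 : bwd.comp fwd = RingHom.id _ := by
    refine Polynomial.ringHom_ext' (ringHom_ext (fun r => by simp [fwd, bwd, hψC, hψX, -AlgHom.toRingHom_eq_coe]) fun i => ?_) (by simp [fwd, bwd])
    simp [fwd, bwd, hψC, hψX, -AlgHom.toRingHom_eq_coe]
  let e : Polynomial S ≃+* MvPolynomial (Fin (m + 2)) k :=
    RingEquiv.ofRingHom fwd bwd h1 h2
  rw [← RingEquiv.height_comap e J, Ideal.height_eq_inf_minimalPrimes (I := J.comap e)]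
  refine le_iInf₂ fun P hP => ?_
  haveI := hP.1.1
  rw [Ideal.height_eq_height_add_of_liesOver_of_hasGoingDown (P.under S) P]
  refine le_trans (Ideal.height_mono fun x hx => hP.1.2 ?_) le_self_add
  show fwd (Polynomial.C x) ∈ J
  rw [Polynomial.coe_eval₂RingHom, Polynomial.eval₂_C]
  exact h (Ideal.mem_map_of_mem _ hx)

theorem polyFun_equiv_pi (N : ℕ) : ∃ e : MvPolynomial (Fin N) k ≃+* ↥(LefPen.polyFunAlg k (Fin N → k)),
    ∀ r w, (e r).1 w = eval w r := by
  classical
  let V := Fin N → k
  let l : Fin N → Module.Dual k V := fun i => LinearMap.proj i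
  let φ : MvPolynomial (Fin N) k →ₐ[k] ↥(LefPen.polyFunAlg k V) :=
    aeval fun i => ⟨(l i : V → k), Algebra.subset_adjoin ⟨l i, rfl⟩⟩
  have hφ : ∀ r w, (φ r).1 w = eval w r := by
    intro r w
    induction r using MvPolynomial.induction_on with
    | C a => simp [φ]
    | add a b ha hb => simp only [map_add, ← ha, ← hb]; rfl
    | mul_X a i ha =>
      rw [map_mul, map_mul, eval_X, ← ha]
      simp only [φ, aeval_X]
      rfl
  refine ⟨(RingEquiv.ofBijective φ ⟨?_, ?_⟩), hφ⟩
  · refine (injective_iff_map_eq_zero _).2 fun r hr => MvPolynomial.funext fun w => ?_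
    rw [map_zero, ← hφ, hr]
    rfl
  · intro g
    obtain ⟨g, hg⟩ := g
    induction hg using Algebra.adjoin_induction with
    | mem x hx =>
      obtain ⟨L, rfl⟩ := hx
      refine ⟨∑ i, C (L (Pi.single i 1)) * X i, Subtype.ext (funext fun w => ?_)⟩
      rw [hφ]
      simp only [map_sum, map_mul, eval_C, eval_X]
      conv_rhs => rw [pi_eq_sum_univ' w, map_sum]
      simp only [map_smul, smul_eq_mul, mul_comm]
    | algebraMap r => exact ⟨C r, by simp [φ]; rfl⟩
    | add x y _ _ hx hy =>
      obtain ⟨a, ha⟩ := hx; obtain ⟨b, hb⟩ := hy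
      exact ⟨a + b, by rw [map_add, ha, hb]; rfl⟩
    | mul x y _ _ hx hy =>
      obtain ⟨a, ha⟩ := hx; obtain ⟨b, hb⟩ := hy
      exact ⟨a * b, by rw [map_mul, ha, hb]; rfl⟩

theorem generic_pointed_lines (hd : 1 ≤ d) (hdm : d + 2 ≤ m) :
    LefPen.IsGeneric k {Φ : LefPen.Form (m + 1) k d |
      ∀ v : Fin (m + 2) → k, v ≠ 0 → MvPolynomial.eval v Φ.1 = 0 →
        LefPen.CodimGE k {w : Fin (m + 2) → k | ∀ s t : k, MvPolynomial.eval (s • v + t • w) Φ.1 = 0} d} := by
  classical
  have hfin := (badIdeal k m d).finite_minimalPrimes_of_isNoetherianRing (MvPolynomial (Co m d) k)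
  haveI := hfin.fintype
  have hR := fun (a : Fin (m + 2)) (P : (badIdeal k m d).minimalPrimes) =>
    exists_relation_bad a hd hdm P.1 P.2
  choose R hR0 hR using hR
  refine isGeneric_of_ne_zero (∏ a, ∏ P, R a P)
    (Finset.prod_ne_zero_iff.2 fun a _ => Finset.prod_ne_zero_iff.2 fun P _ => hR0 a P)
    fun Φ hΦ v hv hv0 => ?_
  obtain ⟨a, hva⟩ := Function.ne_iff.1 hv
  let v1 := (v a)⁻¹ • v
  have hv1a : v1 a = 1 := by simp [v1, inv_mul_cancel₀ (show v a ≠ 0 from hva)]
  have hset : ∀ w, (∀ s t : k, eval (s • v + t • w) Φ.1 = 0) → ∀ s t : k, eval (s • v1 + t • w) Φ.1 = 0 :=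
    fun w h s t => by rw [smul_smul]; exact h _ t
  have hv10 : eval v1 Φ.1 = 0 := by
    have h0 : eval v1 Φ.1 = (v a)⁻¹ ^ d * eval v Φ.1 := by
      rw [eval_eq_sum Φ.2, eval_eq_sum Φ.2, Finset.mul_sum]
      refine Finset.sum_congr rfl fun μ _ => ?_
      simp only [v1, Pi.smul_apply, smul_eq_mul, mul_pow, Finset.prod_mul_distrib, Finset.prod_pow_eq_pow_sum]
      rw [← Finsupp.degree_eq_sum, μ.2]
      ring
    rw [h0, hv0, mul_zero]
  obtain ⟨c, hc⟩ := exists_chartData a Φ.1 Φ.2 v1 hv1a hv10
  have hgood : ¬ ((m + 2 - d : ℕ) : WithBot ℕ∞) ≤ ringKrullDim (MvPolynomial (Fin (m + 1)) k ⧸ upto c d) := by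
    intro hbad
    have hle : badIdeal k m d ≤ RingHom.ker (eval c) := fun r hr => hr c hbad
    haveI : (RingHom.ker (eval c)).IsPrime := RingHom.ker_isPrime _
    obtain ⟨P, hP, hPle⟩ := Ideal.exists_minimalPrimes_le hle
    rw [map_prod, Finset.prod_ne_zero_iff] at hΦ
    have h1 := hΦ a (Finset.mem_univ a)
    rw [map_prod, Finset.prod_ne_zero_iff] at h1
    refine h1 ⟨P, hP⟩ (Finset.mem_univ _) ?_
    have := hR a ⟨P, hP⟩ (v1 ∘ a.succAbove) c fun p hp => hPle hp
    rwa [hc] at this
  obtain ⟨e, he⟩ := polyFun_equiv_pi (k := k) (m + 2)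
  rw [LefPen.CodimGE, ← RingEquiv.height_comap e]
  refine (le_height_upto (by omega) c hgood).trans (le_height_of_chart a v1 _ _ ?_)
  rw [upto, Ideal.map_span, Ideal.span_le]
  rintro _ ⟨_, ⟨j, -, rfl⟩, rfl⟩ w hw
  rw [he]
  have := eval_gen_eq_zero a v1 hv1a c w (by rw [hc]; exact hset w hw) j
  rw [eval_aeval_comp]
  simpa using this

end Groth.L14.Fano
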