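import Mathlib.Algebra.MvPolynomial.Division
import Mathlib.Algebra.MvPolynomial.Equiv
import Mathlib.Algebra.Polynomial.RingDivision
import Mathlib.FieldTheory.IsAlgClosed.Basic
import Mathlib.RingTheory.Ideal.KrullsHeightTheorem
import Mathlib.RingTheory.MvPolynomial.Symmetric.Defs
import Mathlib.RingTheory.Polynomial.UniqueFactorization

/-!
The cone `V(σ₂, σ₄)` in five-space is irreducible.
-/

set_option autoImplicit false

noncomputable section

namespace Groth.L14.Fano.SigmaPrime

open Polynomial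

universe u

/-- A primitive quadratic whose discriminant is not a square is irreducible. -/
theorem irreducible_quadratic {R : Type*} [CommRing R] [IsDomain R] {A B C₀ : R} (hA : A ≠ 0)
    (hrel : IsRelPrime A C₀) (hdisc : ∀ z : R, z * z ≠ B * B - 4 * (A * C₀)) :
    Irreducible (C A * X ^ 2 + C B * X + C C₀) := by
  have hdeg : (C A * X ^ 2 + C B * X + C C₀).natDegree = 2 := natDegree_quadratic hA
  refine ⟨fun h => by simp [natDegree_eq_zero_of_isUnit h] at hdeg, ?_⟩
  intro P Q h
  have hP : P ≠ 0 := by rintro rfl; rw [h, zero_mul, natDegree_zero] at hdeg; omega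
  have hQ : Q ≠ 0 := by rintro rfl; rw [h, mul_zero, natDegree_zero] at hdeg; omega
  have hsum : P.natDegree + Q.natDegree = 2 := by rw [← natDegree_mul hP hQ, ← h, hdeg]
  have unit : ∀ P Q : R[X], C A * X ^ 2 + C B * X + C C₀ = P * Q → P.natDegree = 0 → IsUnit P := by
    intro P Q h h0
    obtain ⟨a, rfl⟩ := natDegree_eq_zero.mp h0
    refine Polynomial.isUnit_C.mpr (hrel ?_ ?_)
    · exact ⟨Q.coeff 2, by simpa [coeff_C] using congrArg (coeff · 2) h⟩
    · exact ⟨Q.coeff 0, by simpa [coeff_C] using congrArg (coeff · 0) h⟩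
  rcases (show P.natDegree = 0 ∨ Q.natDegree = 0 ∨ (P.natDegree = 1 ∧ Q.natDegree = 1) by omega)
    with h0 | h0 | ⟨h1, h2⟩
  · exact Or.inl (unit P Q h h0)
  · exact Or.inr (unit Q P (h.trans (mul_comm P Q)) h0)
  · obtain ⟨p, hp, p', rfl⟩ := natDegree_eq_one.mp h1
    obtain ⟨q, hq, q', rfl⟩ := natDegree_eq_one.mp h2
    have e : (C p * X + C p') * (C q * X + C q') =
        C (p * q) * X ^ 2 + C (p * q' + p' * q) * X + C (p' * q') := by
      simp only [map_add, map_mul]; ring
    rw [e] at h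
    have c2 : A = p * q := by simpa [coeff_C, coeff_X, -map_mul, -map_add] using congrArg (coeff · 2) h
    have c1 : B = p * q' + p' * q := by
      simpa [coeff_C, coeff_X, -map_mul, -map_add] using congrArg (coeff · 1) h
    have c0 : C₀ = p' * q' := by simpa [coeff_C, coeff_X, -map_mul, -map_add] using congrArg (coeff · 0) h
    exact (hdisc (p * q' - p' * q) (by rw [c2, c1, c0]; ring)).elim

section

variable (k : Type u) [Field k]

/-- Polynomials in three variables. -/
abbrev R3 := MvPolynomial (Fin 3) k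

abbrev va : R3 k := MvPolynomial.X 0
abbrev vb : R3 k := MvPolynomial.X 1
abbrev vc : R3 k := MvPolynomial.X 2

def s1 : R3 k := va k + vb k + vc k
def s2 : R3 k := va k * vb k + va k * vc k + vb k * vc k
def s3 : R3 k := va k * vb k * vc k

/-- Evaluation at a point. -/
def ev (x y z : k) : R3 k →+* k := MvPolynomial.eval ![x, y, z]

theorem ev_s1 (x y z : k) : ev k x y z (s1 k) = x + y + z := by simp [ev, s1]
theorem ev_s2 (x y z : k) : ev k x y z (s2 k) = x * y + x * z + y * z := by simp [ev, s2]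
theorem ev_s3 (x y z : k) : ev k x y z (s3 k) = x * y * z := by simp [ev, s3]

theorem not_dvd_of_ev {P Q : R3 k} (x y z : k) (hP : ev k x y z P = 0) (hQ : ev k x y z Q ≠ 0) :
    ¬ P ∣ Q := fun ⟨r, hr⟩ => hQ (by rw [hr, map_mul, hP, zero_mul])

theorem e_succ1 :
    MvPolynomial.finSuccEquiv k 2 (vb k) = C (MvPolynomial.X 0) := by
  rw [vb, show (1 : Fin 3) = (0 : Fin 2).succ from rfl, MvPolynomial.finSuccEquiv_X_succ]

theorem e_succ2 :
    MvPolynomial.finSuccEquiv k 2 (vc k) = C (MvPolynomial.X 1) := by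
  rw [vc, show (2 : Fin 3) = (1 : Fin 2).succ from rfl, MvPolynomial.finSuccEquiv_X_succ]

theorem prime_s2 : Prime (s2 k) := by
  refine UniqueFactorizationMonoid.irreducible_iff_prime.mp (Irreducible.of_map (f := MvPolynomial.finSuccEquiv k 2) ?_)
  rw [s2, map_add, map_add, map_mul, map_mul, map_mul, va, MvPolynomial.finSuccEquiv_X_zero,
    e_succ1, e_succ2]
  set b : MvPolynomial (Fin 2) k := MvPolynomial.X 0
  set c : MvPolynomial (Fin 2) k := MvPolynomial.X 1
  rw [show (X : (MvPolynomial (Fin 2) k)[X]) * C b + X * C c + C b * C c = C (b + c) * X + C (b * c) by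
    simp only [map_add, map_mul]; ring]
  refine irreducible_C_mul_X_add_C ?_ ?_
  · intro h
    simpa [b, c] using congrArg (MvPolynomial.eval ![1, 0]) h
  · refine IsRelPrime.mul_right ?_ ?_
    · refine ((MvPolynomial.X_prime).irreducible.isRelPrime_iff_not_dvd.mpr fun ⟨r, hr⟩ => ?_).symm
      simpa [b, c] using congrArg (MvPolynomial.eval ![0, 1]) hr
    · refine ((MvPolynomial.X_prime).irreducible.isRelPrime_iff_not_dvd.mpr fun ⟨r, hr⟩ => ?_).symm
      simpa [b, c] using congrArg (MvPolynomial.eval ![1, 0]) hr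

variable [CharZero k]

theorem prime_q : Prime (s2 k - s1 k ^ 2) := by
  refine UniqueFactorizationMonoid.irreducible_iff_prime.mp (Irreducible.of_map (f := MvPolynomial.finSuccEquiv k 2) ?_)
  rw [s2, s1, map_sub, map_pow, map_add, map_add, map_add, map_add, map_mul, map_mul, map_mul, va,
    MvPolynomial.finSuccEquiv_X_zero, e_succ1, e_succ2]
  set b : MvPolynomial (Fin 2) k := MvPolynomial.X 0
  set c : MvPolynomial (Fin 2) k := MvPolynomial.X 1
  rw [show ((X : (MvPolynomial (Fin 2) k)[X]) * C b + X * C c + C b * C c - (X + C b + C c) ^ 2) =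
      C (-1) * X ^ 2 + C (-(b + c)) * X + C (-(b * b + b * c + c * c)) by
    simp only [map_add, map_mul, map_neg, map_one]; ring]
  refine irreducible_quadratic (by simp) isRelPrime_one_left.neg_left ?_
  intro z hz
  have h := congrArg (MvPolynomial.aeval ![(X : k[X]), 1]) hz
  simp only [map_mul, map_sub, map_neg, map_add, map_one, map_ofNat, b, c, MvPolynomial.aeval_X,
    Matrix.cons_val_zero, Matrix.cons_val_one] at h
  set s : k[X] := MvPolynomial.aeval ![(X : k[X]), 1] z
  have hD : s * s = C (-3) * X ^ 2 + C (-2) * X + C (-3) := by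
    rw [h]; simp only [map_neg, map_ofNat]; ring
  have hd : s.natDegree = 1 := by
    have h1 := congrArg natDegree hD
    rw [natDegree_quadratic (by norm_num)] at h1
    rcases eq_or_ne s 0 with h0 | h0
    · rw [h0] at h1; simp at h1
    · rw [natDegree_mul h0 h0] at h1; omega
  obtain ⟨u, -, v, hs⟩ := natDegree_eq_one.mp hd
  rw [← hs, show (C u * X + C v) * (C u * X + C v) =
      C (u * u) * X ^ 2 + C (2 * (u * v)) * X + C (v * v) by
    simp only [map_add, map_mul, map_ofNat]; ring] at hD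
  have c2 : u * u = -3 := by simpa [coeff_C, coeff_X, -map_mul, -map_neg] using congrArg (coeff · 2) hD
  have c1 : 2 * (u * v) = -2 := by
    simpa [coeff_C, coeff_X, -map_mul, -map_neg] using congrArg (coeff · 1) hD
  have c0 : v * v = -3 := by simpa [coeff_C, coeff_X, -map_mul, -map_neg] using congrArg (coeff · 0) hD
  have : (4 : k) * 9 = 4 := by linear_combination (-4 * u * u) * c0 + (-4 * (-3 : k)) * c2 + (2 * (u * v) - 2) * c1
  norm_num at this

theorem prime_F : Prime (C (s3 k - s1 k * s2 k) * X ^ 2 + C (-(s2 k ^ 2)) * X + C (-(s2 k * s3 k))) := by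
  have hs := prime_s2 k
  have e1 : ev k 1 1 (-2⁻¹) (s2 k) = 0 := by rw [ev_s2]; norm_num
  have hA : ¬ s2 k ∣ s3 k - s1 k * s2 k :=
    not_dvd_of_ev k 1 1 (-2⁻¹) e1 (by rw [map_sub, map_mul, e1, ev_s3]; norm_num)
  have hS3 : ¬ s2 k ∣ s3 k := not_dvd_of_ev k 1 1 (-2⁻¹) e1 (by rw [ev_s3]; norm_num)
  refine UniqueFactorizationMonoid.irreducible_iff_prime.mp
    (irreducible_quadratic (fun h => hA (h ▸ dvd_zero _)) ?_ ?_)
  · refine IsRelPrime.neg_right (IsRelPrime.mul_right ?_ ?_)
    · exact (hs.irreducible.isRelPrime_iff_not_dvd.mpr hA).symm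
    · have aux : ∀ i : Fin 3, IsRelPrime (s3 k - s1 k * s2 k) (MvPolynomial.X i) := by
        intro i
        refine ((MvPolynomial.X_prime).irreducible.isRelPrime_iff_not_dvd.mpr ?_).symm
        fin_cases i
        · refine not_dvd_of_ev k 0 1 1 (by simp [ev]) ?_
          rw [map_sub, map_mul, ev_s1, ev_s2, ev_s3]; norm_num
        · refine not_dvd_of_ev k 1 0 1 (by simp [ev]) ?_
          rw [map_sub, map_mul, ev_s1, ev_s2, ev_s3]; norm_num
        · refine not_dvd_of_ev k 1 1 0 (by simp [ev]) ?_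
          rw [map_sub, map_mul, ev_s1, ev_s2, ev_s3]; norm_num
      exact ((aux 0).mul_right (aux 1)).mul_right (aux 2)
  · intro z hz
    set E := s2 k ^ 3 + 4 * (s3 k ^ 2 - s1 k * s2 k * s3 k)
    have hzE : z * z = s2 k * E := by rw [hz]; simp only [E]; ring
    obtain ⟨y, rfl⟩ : s2 k ∣ z := (hs.dvd_or_dvd ⟨E, hzE⟩).elim id id
    have hE : s2 k ∣ E := ⟨y * y, mul_left_cancel₀ hs.ne_zero (by linear_combination (-1 : R3 k) * hzE)⟩
    obtain ⟨r, hr⟩ := hE
    have := congrArg (ev k 1 1 (-2⁻¹)) hr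
    simp only [E, map_add, map_sub, map_mul, map_pow, map_ofNat, e1, ev_s3] at this
    norm_num at this

end

theorem radical_isPrime_comap {A A' : Type*} [CommRing A] [CommRing A'] (e : A →+* A') (he : Function.Bijective e) (a b : A)
    (h : (Ideal.span ({e a, e b} : Set A')).radical.IsPrime) :
    (Ideal.span ({a, b} : Set A)).radical.IsPrime := by
  have : Ideal.span ({a, b} : Set A) = (Ideal.span ({e a, e b} : Set A')).comap e := by
    rw [← Ideal.comap_map_of_bijective e he (I := Ideal.span {a, b}),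
      Ideal.map_span, Set.image_pair]
  rw [this, ← Ideal.comap_radical]
  exact h.comap _

theorem exists_prime_elim {A : Type*} [CommRing A] [IsDomain A] {a1 a2 a3 a4 : A}
    (hF : Prime (a1 * a4 - a2 * a3)) (ha : ¬ (a1 * a4 - a2 * a3) ∣ a1) :
    ∃ P : Ideal A[X], P.IsPrime ∧ Ideal.span {C a1 * X + C a2, C a3 * X + C a4} ≤ P ∧
      ∀ Q : Ideal A[X], Q.IsPrime → Ideal.span {C a1 * X + C a2, C a3 * X + C a4} ≤ Q →
        C a1 ∉ Q → P ≤ Q := by
  classical
  set F := a1 * a4 - a2 * a3 with hFeq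
  have : (Ideal.span {F}).IsPrime := (Ideal.span_singleton_prime hF.ne_zero).mpr hF
  let K := FractionRing (A ⧸ Ideal.span {F})
  let ι : A →+* K := (algebraMap (A ⧸ Ideal.span {F}) K).comp (Ideal.Quotient.mk (Ideal.span {F}))
  have hι : ∀ r, ι r = 0 ↔ F ∣ r := fun r => by simp [ι, Ideal.Quotient.eq_zero_iff_dvd]
  have hE1 : ι a1 ≠ 0 := by rwa [Ne, hι]
  let φ : A[X] →+* K := eval₂RingHom ι (-(ι a2 / ι a1))
  set I := Ideal.span {C a1 * X + C a2, C a3 * X + C a4}
  set P := RingHom.ker φ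
  have hfI : C a1 * X + C a2 ∈ I := Ideal.subset_span (by simp)
  have hFI : C F ∈ I := by
    rw [Ideal.mem_span_pair]
    refine ⟨-C a3, C a1, ?_⟩
    rw [hFeq]; simp only [map_sub, map_mul]; ring
  have hIP : I ≤ P := by
    rw [Ideal.span_le]
    rintro x (rfl | rfl)
    · simp only [P, SetLike.mem_coe, RingHom.mem_ker, φ, coe_eval₂RingHom, eval₂_add, eval₂_mul,
        eval₂_C, eval₂_X]
      linear_combination -mul_div_cancel₀ (ι a2) hE1
    · simp only [P, SetLike.mem_coe, RingHom.mem_ker, φ, coe_eval₂RingHom, eval₂_add, eval₂_mul,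
        eval₂_C, eval₂_X]
      have hz : ι a1 * ι a4 - ι a2 * ι a3 = 0 := by
        rw [← map_mul, ← map_mul, ← map_sub, hι]
      apply mul_left_cancel₀ hE1
      rw [mul_zero]
      linear_combination hz - ι a3 * mul_div_cancel₀ (ι a2) hE1
  have elim : ∀ h : A[X], ∃ (N : ℕ) (r : A), C (a1 ^ N) * h - C r ∈ Ideal.span {C a1 * X + C a2} := by
    intro h
    induction h using Polynomial.induction_on with
    | C a => exact ⟨0, a, by simp⟩
    | add p q hp hq =>
      obtain ⟨N, r, hr⟩ := hp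
      obtain ⟨M, r', hr'⟩ := hq
      refine ⟨N + M, a1 ^ M * r + a1 ^ N * r', ?_⟩
      convert add_mem (Ideal.mul_mem_left _ (C (a1 ^ M)) hr) (Ideal.mul_mem_left _ (C (a1 ^ N)) hr')
        using 1
      simp only [map_add, map_mul, map_pow]; ring
    | monomial n a hn =>
      obtain ⟨N, r, hr⟩ := hn
      refine ⟨N + 1, -(r * a2), ?_⟩
      convert add_mem (Ideal.mul_mem_left _ (C a1 * X) hr)
        (Ideal.mul_mem_left _ (C r) (Ideal.mem_span_singleton_self (C a1 * X + C a2))) using 1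
      simp only [map_neg, map_mul, map_pow, pow_succ]; ring
  refine ⟨P, RingHom.ker_isPrime φ, hIP, fun Q hQ hIQ hE h hh => ?_⟩
  obtain ⟨N, r, hr⟩ := elim h
  have hrP : C r ∈ P := by
    simpa using sub_mem (Ideal.mul_mem_left P (C (a1 ^ N)) hh)
      ((Ideal.span_singleton_le_iff_mem _).mpr (hIP hfI) hr)
  obtain ⟨r', rfl⟩ : F ∣ r := by rw [← hι]; simpa [P, φ, RingHom.mem_ker] using hrP
  have h1 : C (F * r') ∈ Q := by rw [map_mul]; exact Ideal.mul_mem_right _ _ (hIQ hFI)
  have h2 : C (a1 ^ N) * h ∈ Q := by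
    simpa using add_mem ((Ideal.span_singleton_le_iff_mem _).mpr (hIQ hfI) hr) h1
  refine (hQ.mem_or_mem h2).resolve_left ?_
  rw [map_pow]
  exact fun h4 => hE (hQ.mem_of_pow_mem N h4)

theorem radical_isPrime {B : Type*} [CommRing B] [IsDomain B] [IsNoetherianRing B] (u1 u2 u3 : B)
    (hA : u3 - u1 * u2 ≠ 0)
    (hF : Prime (C (u3 - u1 * u2) * X ^ 2 + C (-(u2 ^ 2)) * X + C (-(u2 * u3))))
    (hq : Prime (u2 - u1 ^ 2)) (hnd : ¬ (u2 - u1 ^ 2) ∣ u3 - u1 * u2) :
    (Ideal.span ({C (X + C u1) * X + C (C u1 * X + C u2),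
      C (C u2 * X + C u3) * X + C (C u3 * X)} : Set B[X][X])).radical.IsPrime := by
  classical
  have hFeq : C (u3 - u1 * u2) * X ^ 2 + C (-(u2 ^ 2)) * X + C (-(u2 * u3)) =
      (X + C u1) * (C u3 * X) - (C u1 * X + C u2) * (C u2 * X + C u3) := by
    simp only [map_sub, map_neg, map_mul, map_pow]; ring
  have hdvd : ¬ ((X + C u1) * (C u3 * X) - (C u1 * X + C u2) * (C u2 * X + C u3)) ∣ (X + C u1) := by
    rw [← hFeq]
    intro h
    have := natDegree_le_of_dvd h (X_add_C_ne_zero _)
    rw [natDegree_quadratic hA, natDegree_X_add_C] at this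
    omega
  obtain ⟨P, hPp, hIP, hmain⟩ := exists_prime_elim (hFeq ▸ hF) hdvd
  set I := Ideal.span ({C (X + C u1) * X + C (C u1 * X + C u2),
      C (C u2 * X + C u3) * X + C (C u3 * X)} : Set B[X][X])
  have hmin : ∀ Q ∈ I.minimalPrimes, C (X + C u1) ∉ Q := by
    intro Q hQ hE
    have hQp : Q.IsPrime := hQ.1.1
    let ε : B[X] →+* B := evalRingHom (-u1)
    let J : Ideal B := Ideal.span {u2 - u1 ^ 2}
    have hJ : J.IsPrime := (Ideal.span_singleton_prime hq.ne_zero).mpr hq
    let P1 : Ideal B[X][X] := Ideal.map C (RingHom.ker ε)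
    let P2 : Ideal B[X][X] := Ideal.map C (J.comap ε)
    have h0 : (RingHom.ker ε).IsPrime := RingHom.ker_isPrime ε
    have h00 : (J.comap ε).IsPrime := inferInstance
    have hp1 : P1.IsPrime := Ideal.isPrime_map_C_of_isPrime
    have hp2 : P2.IsPrime := Ideal.isPrime_map_C_of_isPrime
    have hmemC : ∀ (L : Ideal B[X]) (x : B[X]), C x ∈ Ideal.map C L → x ∈ L := by
      intro L x hx
      simpa using (Ideal.mem_map_C_iff.mp hx) 0
    have l01 : (⊥ : Ideal B[X][X]) < P1 := by
      rw [bot_lt_iff_ne_bot]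
      intro hb
      have h1 : C (X + C u1) ∈ P1 := Ideal.mem_map_of_mem C (by simp [ε, RingHom.mem_ker])
      rw [hb, Ideal.mem_bot, C_eq_zero] at h1
      exact X_add_C_ne_zero _ h1
    have l12 : P1 < P2 := by
      refine lt_of_le_of_ne (Ideal.map_mono (fun x hx => ?_)) fun he => ?_
      · rw [Ideal.mem_comap, show ε x = 0 from hx]; exact J.zero_mem
      · have h1 : C (C (u2 - u1 ^ 2)) ∈ P2 := Ideal.mem_map_of_mem C (by simp [ε, J])
        rw [← he] at h1
        exact hq.ne_zero (by simpa [ε, RingHom.mem_ker] using hmemC _ _ h1)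
    have hfQ := hQ.1.2 (Ideal.subset_span (show C (X + C u1) * X + C (C u1 * X + C u2) ∈
      ({C (X + C u1) * X + C (C u1 * X + C u2), C (C u2 * X + C u3) * X + C (C u3 * X)} :
        Set B[X][X]) by simp))
    have l2Q : P2 < Q := by
      refine lt_of_le_of_ne ?_ fun he => ?_
      · rw [Ideal.map_le_iff_le_comap]
        intro x hx
        rw [Ideal.mem_comap] at hx ⊢
        have hdiv : (X + C u1) ∣ x - C (x.eval (-u1)) := by
          have := X_sub_C_dvd_sub_C_eval (a := -u1) (p := x)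
          rwa [map_neg, sub_neg_eq_add] at this
        obtain ⟨y, hy⟩ := hdiv
        obtain ⟨z, hz⟩ := Ideal.mem_span_singleton.mp hx
        have hE2 : C (C u1 * X + C u2) ∈ Q := by
          simpa using sub_mem hfQ (Ideal.mul_mem_right X Q hE)
        have hqQ : C (C (u2 - u1 ^ 2)) ∈ Q := by
          convert sub_mem hE2 (Ideal.mul_mem_left Q (C (C u1)) hE) using 1
          simp only [map_sub, map_add, map_mul, map_pow]; ring
        rw [show x = (X + C u1) * y + C (u2 - u1 ^ 2) * C z by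
          rw [← map_mul, ← hz]; simp only [ε, coe_evalRingHom]; linear_combination hy]
        rw [map_add, map_mul, map_mul]
        exact add_mem (Ideal.mul_mem_right _ _ hE) (Ideal.mul_mem_right _ _ hqQ)
      · have h1 : C (C u2 * X + C u3) * X + C (C u3 * X) ∈ P2 :=
          he ▸ hQ.1.2 (Ideal.subset_span (by simp))
        have h2 := (Ideal.mem_map_C_iff.mp h1) 1
        simp only [coeff_add, coeff_C_mul, coeff_X_one, mul_one, coeff_C, one_ne_zero, if_false,
          add_zero, Ideal.mem_comap, ε, coe_evalRingHom, eval_add, eval_mul, eval_C, eval_X] at h2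
        refine hnd ?_
        have h3 := Ideal.mem_span_singleton.mp h2
        convert h3 using 1
        ring
    have hb : (⊥ : Ideal B[X][X]).IsPrime := Ideal.isPrime_bot
    have a1 := Ideal.height_add_one_le_of_lt_of_isPrime l01
    have a2 := Ideal.height_add_one_le_of_lt_of_isPrime l12
    have a3 := Ideal.height_add_one_le_of_lt_of_isPrime l2Q
    rw [Ideal.height_bot, zero_add] at a1
    have hh := Ideal.height_le_card_of_mem_minimalPrimes_span (Set.toFinite _) hQ
    have hc : ({C (X + C u1) * X + C (C u1 * X + C u2),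
        C (C u2 * X + C u3) * X + C (C u3 * X)} : Set B[X][X]).ncard ≤ 2 :=
      Set.ncard_insert_le _ _ |>.trans (by simp)
    have : (3 : ℕ∞) ≤ ((2 : ℕ) : ℕ∞) := by
      calc (3 : ℕ∞) = 1 + 1 + 1 := rfl
        _ ≤ P1.height + 1 + 1 := by gcongr
        _ ≤ P2.height + 1 := by gcongr
        _ ≤ Q.height := a3
        _ ≤ _ := hh.trans (by exact_mod_cast hc)
    exact absurd this (by decide)
  have : I.radical = P := by
    apply le_antisymm (hPp.radical_le_iff.mpr hIP)
    rw [← Ideal.sInf_minimalPrimes]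
    exact le_sInf fun Q hQ => hmain Q hQ.1.1 hQ.1.2 (hmin Q hQ)
  rw [this]
  exact hPp

section

variable (k : Type u) [Field k] [CharZero k]

set_option maxHeartbeats 1000000 in
theorem main [IsAlgClosed k] :
    (Ideal.span ({MvPolynomial.esymm (Fin 5) k 2, MvPolynomial.esymm (Fin 5) k 4} :
      Set (MvPolynomial (Fin 5) k))).radical.IsPrime := by
  classical
  let e : MvPolynomial (Fin 5) k ≃+* (R3 k)[X][X] :=
    (MvPolynomial.finSuccEquiv k 4).toRingEquiv.trans
      (Polynomial.mapEquiv (MvPolynomial.finSuccEquiv k 3).toRingEquiv)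
  have x0 : e (MvPolynomial.X 0) = X := by simp [e, MvPolynomial.finSuccEquiv_X_zero]
  have xs : ∀ j : Fin 4, e (MvPolynomial.X j.succ) = C (MvPolynomial.finSuccEquiv k 3 (MvPolynomial.X j)) :=
    fun j => by simp [e, MvPolynomial.finSuccEquiv_X_succ]
  have x1 : e (MvPolynomial.X 1) = C X := by
    rw [show (1 : Fin 5) = (0 : Fin 4).succ from rfl, xs, MvPolynomial.finSuccEquiv_X_zero]
  have x2 : e (MvPolynomial.X 2) = C (C (va k)) := by
    rw [show (2 : Fin 5) = (0 : Fin 3).succ.succ from rfl, xs, MvPolynomial.finSuccEquiv_X_succ]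
  have x3 : e (MvPolynomial.X 3) = C (C (vb k)) := by
    rw [show (3 : Fin 5) = (1 : Fin 3).succ.succ from rfl, xs, MvPolynomial.finSuccEquiv_X_succ]
  have x4 : e (MvPolynomial.X 4) = C (C (vc k)) := by
    rw [show (4 : Fin 5) = (2 : Fin 3).succ.succ from rfl, xs, MvPolynomial.finSuccEquiv_X_succ]
  have e2 : e (MvPolynomial.esymm (Fin 5) k 2) =
      C (X + C (s1 k)) * X + C (C (s1 k) * X + C (s2 k)) := by
    rw [MvPolynomial.esymm, show Finset.powersetCard 2 (Finset.univ : Finset (Fin 5)) =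
      {{0, 1}, {0, 2}, {0, 3}, {0, 4}, {1, 2}, {1, 3}, {1, 4}, {2, 3}, {2, 4}, {3, 4}} by decide]
    repeat rw [Finset.sum_insert (by decide)]
    rw [Finset.sum_singleton]
    repeat rw [Finset.prod_pair (by decide)]
    simp only [map_add, map_mul, x0, x1, x2, x3, x4, s1, s2]
    ring
  have e4 : e (MvPolynomial.esymm (Fin 5) k 4) =
      C (C (s2 k) * X + C (s3 k)) * X + C (C (s3 k) * X) := by
    rw [MvPolynomial.esymm, show Finset.powersetCard 4 (Finset.univ : Finset (Fin 5)) =
      {{0, 1, 2, 3}, {0, 1, 2, 4}, {0, 1, 3, 4}, {0, 2, 3, 4}, {1, 2, 3, 4}} by decide]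
    repeat rw [Finset.sum_insert (by decide)]
    rw [Finset.sum_singleton]
    repeat rw [Finset.prod_insert (by decide)]
    simp only [Finset.prod_singleton, map_add, map_mul, x0, x1, x2, x3, x4, s2, s3]
    ring
  refine radical_isPrime_comap (A' := (R3 k)[X][X]) e.toRingHom (by exact e.bijective) _ _ ?_
  simp only [RingEquiv.toRingHom_eq_coe, RingHom.coe_coe, e2, e4]
  have hpt : ∃ t : k, t ^ 2 + t + 1 = 0 := by
    obtain ⟨t, ht⟩ := IsAlgClosed.exists_root (C (1 : k) * X ^ 2 + C 1 * X + C 1)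
      (by rw [degree_quadratic one_ne_zero]; decide)
    exact ⟨t, by simpa using ht⟩
  obtain ⟨t, ht⟩ := hpt
  have hA : ev k 1 0 t (s3 k - s1 k * s2 k) = 1 := by
    rw [map_sub, map_mul, ev_s1, ev_s2, ev_s3]; linear_combination -ht
  refine radical_isPrime (s1 k) (s2 k) (s3 k) (fun h => ?_) (prime_F k) (prime_q k)
    (not_dvd_of_ev k 1 0 t ?_ (by rw [hA]; exact one_ne_zero))
  · rw [h, map_zero] at hA; exact zero_ne_one hA
  · rw [map_sub, map_pow, ev_s1, ev_s2]; linear_combination -ht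

end

end Groth.L14.Fano.SigmaPrime
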